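import Cfsg.Agent.H98.MaximalUSubOrthMain
import Cfsg.Agent.H60.SULow.Stab

set_option autoImplicit false
set_option linter.style.haveILetI false
set_option linter.unusedSectionVars false

/-!
# Orthogonal subfield subgroups of `SU` from dimension six

Without rational centres an element fixing one non-zero rational vector is rational.
-/

namespace Cfsg.Agent.H78.SUSub

open scoped Matrix
open Cfsg.Agent.H98 Cfsg.Agent.H98.Herm

variable {F : Type*} [Field F] [Fintype F] {q n : ℕ}

local notation "Mat" => Matrix (Fin n) (Fin n) F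

/-- Hypotheses: the form in the given coordinates is rational and symmetric on rational vectors. -/
structure OrthSix (hF : Fintype.card F = q ^ 2) (F₀ : Subfield F) (P : GL (Fin n) F) : Prop where
  hn : 6 ≤ n
  two : (2 : F) ≠ 0
  fixed : ∀ x, frobQ hF x = x ↔ x ∈ F₀
  rat : ∀ u v : Fin n → F, IsRatVec F₀ u → IsRatVec F₀ v → pullForm n q P u v ∈ F₀

section
variable {hF : Fintype.card F = q ^ 2} {F₀ : Subfield F} {P : GL (Fin n) F} (H : OrthSix hF F₀ P)
include H

/-- The pulled back form is unitary. -/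
theorem OrthSix.herm : Cfsg.Geo.IsUnitaryForm (frobQ hF) (pullForm n q P) := isUnitary_pull hF P

theorem OrthSix.symm {u v : Fin n → F} (hu : IsRatVec F₀ u) (hv : IsRatVec F₀ v) :
    pullForm n q P v u = pullForm n q P u v := by
  rw [H.herm.herm v u]; exact (H.fixed _).mpr (H.rat u v hu hv)

theorem OrthSix.sigma_rat {r : Fin n → F} (hr : IsRatVec F₀ r) (x : Fin n) : frobQ hF (r x) = r x :=
  (H.fixed _).mpr (hr x)

theorem OrthSix.two_mem : (2 : F) ∈ F₀ := one_add_one_eq_two (R := F) ▸ add_mem (one_mem F₀) (one_mem F₀)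

/-- Splitting into rational parts. -/
theorem OrthSix.decomp {ε : F} (hε0 : ε ≠ 0) (hε : frobQ hF ε = -ε) (v : Fin n → F) :
    ∃ a b, IsRatVec F₀ a ∧ IsRatVec F₀ b ∧ v = a + ε • b := by
  set b : Fin n → F := fun x => (v x - frobQ hF (v x)) / (2 * ε)
  have h2ε : 2 * ε ≠ 0 := mul_ne_zero H.two hε0
  have hb : IsRatVec F₀ b := fun x => (H.fixed _).mp (by
    simp only [b, map_div₀, map_sub, map_mul, H.herm.involutive, hε, map_ofNat]
    rw [← neg_sub (v x), mul_neg, neg_div_neg_eq])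
  refine ⟨v - ε • b, b, fun x => (H.fixed _).mp ?_, hb, by rw [sub_add_cancel]⟩
  simp only [Pi.sub_apply, Pi.smul_apply, smul_eq_mul, map_sub, map_mul, H.sigma_rat hb x, hε]
  simp only [b]
  have := H.two
  field_simp
  ring

/-- Rational parts of a vector orthogonal to a rational vector are orthogonal to it. -/
theorem OrthSix.split_zero {ε : F} (hε0 : ε ≠ 0) (hε : frobQ hF ε = -ε) {c d : F} (hc : c ∈ F₀) (hd : d ∈ F₀)
    (h : c + ε * d = 0) : c = 0 ∧ d = 0 := by
  have h1 := congrArg (frobQ hF) h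
  rw [map_add, map_mul, map_zero, (H.fixed _).mpr hc, (H.fixed _).mpr hd, hε] at h1
  have hd0 : d = 0 := (mul_eq_zero.mp (show (2 * ε) * d = 0 by linear_combination h - h1)).resolve_left
    (mul_ne_zero H.two hε0)
  exact ⟨by rw [hd0] at h; linear_combination h, hd0⟩

/-- A rational vector with non-zero product. -/
theorem OrthSix.exists_nonorth {w : Fin n → F} (hw : w ≠ 0) :
    ∃ z : Fin n → F, IsRatVec F₀ z ∧ pullForm n q P z w ≠ 0 := by
  by_contra hc
  push Not at hc
  obtain ⟨x, hx⟩ := (H.herm.nondegenerate w hw).1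
  rw [← fl_apply H.herm, pi_eq_sum_univ' x, map_sum] at hx
  exact hx (Finset.sum_eq_zero fun i _ => by rw [map_smul, fl_apply, hc _ (isRat_single i), smul_zero])

/-- The common orthogonal of the given vectors. -/
noncomputable def ratPerp {k : ℕ} (v : Fin k → Fin n → F) : Submodule F (Fin n → F) :=
  LinearMap.ker (LinearMap.pi fun i => fl H.herm (v i))

/-- An anisotropic rational vector orthogonal to few rational vectors. -/
theorem OrthSix.aniso_or {k : ℕ} (v : Fin k → Fin n → F) (hv : ∀ i, IsRatVec F₀ (v i)) :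
    (∃ x, IsRatVec F₀ x ∧ (∀ i, pullForm n q P x (v i) = 0) ∧ pullForm n q P x x ≠ 0) ∨
      ∀ x ∈ ratPerp H v, ∀ y ∈ ratPerp H v, pullForm n q P x y = 0 := by
  obtain ⟨ε, hε0, hε⟩ := exists_skew H.herm
  by_cases hc : ∃ x, IsRatVec F₀ x ∧ (∀ i, pullForm n q P x (v i) = 0) ∧ pullForm n q P x x ≠ 0
  · exact Or.inl hc
  push Not at hc
  refine Or.inr ?_
  set U := LinearMap.ker (LinearMap.pi fun i => fl H.herm (v i))
  have hrr : ∀ x y, IsRatVec F₀ x → IsRatVec F₀ y → x ∈ U → y ∈ U → pullForm n q P x y = 0 := by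
    intro x y hx hy hxU hyU
    have e1 := hc x hx ((mem_perp H.herm v x).mp hxU)
    have e2 := hc y hy ((mem_perp H.herm v y).mp hyU)
    have e3 := hc (x + y) (isRat_add hx hy) ((mem_perp H.herm v (x + y)).mp (U.add_mem hxU hyU))
    rw [H.herm.add_left, add_right H.herm, add_right H.herm, e1, e2, H.symm hx hy] at e3
    exact (mul_eq_zero.mp (show (2 : F) * pullForm n q P x y = 0 by linear_combination e3)).resolve_left H.two
  have hTI : ∀ x ∈ U, ∀ y ∈ U, pullForm n q P x y = 0 := by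
    intro x hx y hy
    obtain ⟨a, b, ha, hb, rfl⟩ := H.decomp hε0 hε x
    obtain ⟨c, d, hc', hd, rfl⟩ := H.decomp hε0 hε y
    have hparts : ∀ a b, IsRatVec F₀ a → IsRatVec F₀ b → a + ε • b ∈ U → a ∈ U ∧ b ∈ U := fun a b ha hb h => by
      have hh : ∀ i, pullForm n q P a (v i) = 0 ∧ pullForm n q P b (v i) = 0 := fun i => by
        have := (mem_perp H.herm v _).mp h i
        rw [H.herm.add_left, H.herm.smul_left] at this
        exact H.split_zero hε0 hε (H.rat _ _ ha (hv i)) (H.rat _ _ hb (hv i)) this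
      exact ⟨(mem_perp H.herm v a).mpr fun i => (hh i).1, (mem_perp H.herm v b).mpr fun i => (hh i).2⟩
    obtain ⟨haU, hbU⟩ := hparts a b ha hb hx
    obtain ⟨hcU, hdU⟩ := hparts c d hc' hd hy
    rw [H.herm.add_left, add_right H.herm, add_right H.herm, H.herm.smul_left, H.herm.smul_left, smul_right H.herm,
      smul_right H.herm, hrr a c ha hc' haU hcU, hrr a d ha hd haU hdU, hrr b c hb hc' hbU hcU, hrr b d hb hd hbU hdU]
    ring
  exact hTI

/-- An anisotropic rational vector orthogonal to less than half as many rational vectors. -/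
theorem OrthSix.exists_aniso {k : ℕ} (hk : 2 * k < n) (v : Fin k → Fin n → F) (hv : ∀ i, IsRatVec F₀ (v i)) :
    ∃ x, IsRatVec F₀ x ∧ (∀ i, pullForm n q P x (v i) = 0) ∧ pullForm n q P x x ≠ 0 := by
  refine (H.aniso_or v hv).resolve_right fun hTI => ?_
  have h1 := ti_bound H.herm _ hTI
  have h2 := finrank_perp H.herm v
  change Fintype.card (Fin n) ≤ Module.finrank F (ratPerp H v) + k at h2
  rw [Fintype.card_fin] at h1 h2
  omega

/-- Isotropic leftovers orthogonal to an anisotropic vector and to its complement are orthogonal to everything. -/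
theorem OrthSix.ti_step {k : ℕ} (v : Fin k → Fin n → F) {x : Fin n → F} (hx : x ∈ ratPerp H v)
    (hxx : pullForm n q P x x ≠ 0) {u : Fin n → F} (hu : u ∈ ratPerp H (Fin.cons x v))
    (hperp : ∀ y ∈ ratPerp H (Fin.cons x v), pullForm n q P u y = 0) :
    u ∈ ratPerp H v ∧ ∀ y ∈ ratPerp H v, pullForm n q P u y = 0 := by
  unfold ratPerp at *
  simp only [mem_perp] at *
  have hux : pullForm n q P u x = 0 := by simpa using hu 0
  refine ⟨fun i => by simpa using hu i.succ, fun y hy => ?_⟩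
  set c := pullForm n q P y x / pullForm n q P x x with hc
  have h1 := hperp (y - c • x) fun i => by
    refine Fin.cases ?_ (fun j => ?_) i
    · simp [sub_left H.herm, H.herm.smul_left, hc, div_mul_cancel₀ _ hxx]
    · simp [sub_left H.herm, H.herm.smul_left, hy j, hx j]
  rwa [sub_right H.herm, smul_right H.herm, hux, mul_zero, sub_zero] at h1

/-- The radical left over is small. -/
theorem OrthSix.ti_small {k : ℕ} (v : Fin k → Fin n → F) {U : Submodule F (Fin n → F)}
    (hU : ∀ u ∈ U, ∀ y ∈ ratPerp H v, pullForm n q P u y = 0) : Module.finrank F U ≤ k := by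
  have hle : U ≤ Submodule.span F (Set.range v) := fun u hu => by
    rw [← perp_perp H.herm (Submodule.span F (Set.range v)), mem_perpW H.herm]
    exact fun y hy => hU u hu y ((mem_perp H.herm v y).mpr fun i =>
      (mem_perpW H.herm).mp hy _ (Submodule.subset_span ⟨i, rfl⟩))
  exact (Submodule.finrank_mono hle).trans ((finrank_range_le_card v).trans (Fintype.card_fin k).le)

/-- A binary form with anisotropic basis takes every rational value. -/
theorem OrthSix.solve {x₁ x₂ : Fin n → F} (hx₁ : IsRatVec F₀ x₁) (hx₂ : IsRatVec F₀ x₂)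
    (a₁ : pullForm n q P x₁ x₁ ≠ 0) (a₂ : pullForm n q P x₂ x₂ ≠ 0) {g : F} (hg : g ∈ F₀) :
    ∃ s t, s ∈ F₀ ∧ t ∈ F₀ ∧
      pullForm n q P x₁ x₁ * s ^ 2 + (pullForm n q P x₂ x₂ * t ^ 2 + g) = 0 := by
  classical
  haveI := Fintype.ofFinite F₀
  set α : F₀ := ⟨pullForm n q P x₁ x₁, H.rat _ _ hx₁ hx₁⟩
  set β : F₀ := ⟨pullForm n q P x₂ x₂, H.rat _ _ hx₂ hx₂⟩
  set γ : F₀ := ⟨g, hg⟩
  have hα : α ≠ 0 := fun h => a₁ (congrArg Subtype.val h)
  have hβ : β ≠ 0 := fun h => a₂ (congrArg Subtype.val h)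
  have hodd : Fintype.card F₀ % 2 = 1 := by
    rcases Nat.mod_two_eq_zero_or_one (Fintype.card F₀) with h | h
    · exfalso
      haveI : CharP F₀ 2 := ringChar.of_eq (FiniteField.even_card_iff_char_two.mpr h)
      exact H.two (congrArg Subtype.val (CharTwo.two_eq_zero (R := F₀)))
    · exact h
  obtain ⟨s, t, hst⟩ := FiniteField.exists_root_sum_quadratic
    (f := Polynomial.C α * Polynomial.X ^ 2) (g := Polynomial.C β * Polynomial.X ^ 2 + Polynomial.C γ)
    (Polynomial.degree_C_mul_X_pow 2 hα)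
    (by rw [Polynomial.degree_add_C (by rw [Polynomial.degree_C_mul_X_pow 2 hβ]; decide)]
        exact Polynomial.degree_C_mul_X_pow 2 hβ) hodd
  exact ⟨s, t, s.2, t.2, by simpa [α, β, γ] using congrArg Subtype.val hst⟩

/-- A non-zero rational vector orthogonal to fewer than `n` rational vectors. -/
theorem OrthSix.exists_rat_perp {k : ℕ} (hk : k < n) (v : Fin k → Fin n → F) (hv : ∀ i, IsRatVec F₀ (v i)) :
    ∃ x, IsRatVec F₀ x ∧ x ≠ 0 ∧ ∀ i, pullForm n q P x (v i) = 0 := by
  obtain ⟨ε, hε0, hε⟩ := exists_skew H.herm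
  have hd := finrank_perp H.herm v
  change Fintype.card (Fin n) ≤ Module.finrank F (ratPerp H v) + k at hd
  rw [Fintype.card_fin] at hd
  have hne : ratPerp H v ≠ ⊥ := fun h => by rw [h, finrank_bot] at hd; omega
  obtain ⟨u, hu, hu0⟩ := Submodule.exists_mem_ne_zero_of_ne_bot hne
  obtain ⟨a, b, ha, hb, rfl⟩ := H.decomp hε0 hε u
  have hh : ∀ i, pullForm n q P a (v i) = 0 ∧ pullForm n q P b (v i) = 0 := fun i => by
    have := (mem_perp H.herm v _).mp hu i
    rw [H.herm.add_left, H.herm.smul_left] at this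
    exact H.split_zero hε0 hε (H.rat _ _ ha (hv i)) (H.rat _ _ hb (hv i)) this
  by_cases ha0 : a = 0
  · exact ⟨b, hb, fun h => hu0 (by rw [ha0, h, smul_zero, add_zero]), fun i => (hh i).2⟩
  · exact ⟨a, ha, ha0, fun i => (hh i).1⟩

/-- A non-zero rational isotropic vector orthogonal to rational vectors leaving three dimensions. -/
theorem OrthSix.exists_iso_perp {k : ℕ} (hk : k + 3 ≤ n) (v : Fin k → Fin n → F) (hv : ∀ i, IsRatVec F₀ (v i)) :
    ∃ z, IsRatVec F₀ z ∧ z ≠ 0 ∧ pullForm n q P z z = 0 ∧ ∀ i, pullForm n q P z (v i) = 0 := by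
  obtain ⟨x₁, hx₁, hx₁0, o₁⟩ := H.exists_rat_perp (by omega) v hv
  by_cases a₁ : pullForm n q P x₁ x₁ = 0
  · exact ⟨x₁, hx₁, hx₁0, a₁, o₁⟩
  have hv₁ : ∀ i, IsRatVec F₀ ((Fin.cons x₁ v : Fin (k + 1) → Fin n → F) i) := fun i => Fin.cases hx₁ hv i
  obtain ⟨x₂, hx₂, hx₂0, o₂⟩ := H.exists_rat_perp (by omega) (Fin.cons x₁ v) hv₁
  have o₂' : ∀ i, pullForm n q P x₂ (v i) = 0 := fun i => by simpa using o₂ i.succ
  by_cases a₂ : pullForm n q P x₂ x₂ = 0
  · exact ⟨x₂, hx₂, hx₂0, a₂, o₂'⟩
  have hv₂ : ∀ i, IsRatVec F₀ ((Fin.cons x₂ (Fin.cons x₁ v) : Fin (k + 1 + 1) → Fin n → F) i) :=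
    fun i => Fin.cases hx₂ hv₁ i
  obtain ⟨x₃, hx₃, hx₃0, o₃⟩ := H.exists_rat_perp (by omega) (Fin.cons x₂ (Fin.cons x₁ v)) hv₂
  have o₃' : ∀ i, pullForm n q P x₃ (v i) = 0 := fun i => by simpa using o₃ i.succ.succ
  by_cases a₃ : pullForm n q P x₃ x₃ = 0
  · exact ⟨x₃, hx₃, hx₃0, a₃, o₃'⟩
  have h21 : pullForm n q P x₂ x₁ = 0 := by simpa using o₂ 0
  have h32 : pullForm n q P x₃ x₂ = 0 := by simpa using o₃ 0
  have h31 : pullForm n q P x₃ x₁ = 0 := by simpa using o₃ (Fin.succ 0)
  have h12 := (eq_zero_comm H.herm).mp h21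
  have h13 := (eq_zero_comm H.herm).mp h31
  have h23 := (eq_zero_comm H.herm).mp h32
  obtain ⟨s, t, hs, ht, hst⟩ := H.solve hx₁ hx₂ a₁ a₂ (H.rat _ _ hx₃ hx₃)
  set z := s • x₁ + t • x₂ + x₃ with hz
  have hz3 : pullForm n q P z x₃ = pullForm n q P x₃ x₃ := by
    simp only [hz, H.herm.add_left, H.herm.smul_left, h13, h23]; ring
  refine ⟨z, isRat_add (isRat_add (isRat_smul hs hx₁) (isRat_smul ht hx₂)) hx₃,
    fun h => a₃ (by rw [← hz3, h, zero_left H.herm]), ?_, fun i => ?_⟩
  · simp only [hz, H.herm.add_left, add_right H.herm, H.herm.smul_left, smul_right H.herm, (H.fixed _).mpr hs,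
      (H.fixed _).mpr ht, h21, h31, h32, h12, h13, h23]
    linear_combination hst
  · simp only [hz, H.herm.add_left, H.herm.smul_left, o₁ i, o₂' i, o₃' i]; ring

/-- A rational Siegel element. -/
theorem OrthSix.eich_rat {x z : Fin n → F} (hx : IsRatVec F₀ x) (hz : IsRatVec F₀ z)
    (hzz : pullForm n q P z z = 0) (hxz : pullForm n q P x z = 0) :
    eich H.herm hzz hxz (- pullForm n q P x x / 2) ∈ subGroupF (Fin n) F₀ ⊓ isoSL (pullForm n q P) := by
  haveI : Nonempty (Fin n) := ⟨⟨0, by have := H.hn; omega⟩⟩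
  have hγF : - pullForm n q P x x / 2 ∈ F₀ := div_mem (neg_mem (H.rat _ _ hx hx)) H.two_mem
  refine ⟨mem_subGroupF.mpr ⟨1, one_ne_zero, fun a b => ?_⟩, fun u v => eich_iso H.herm hzz hxz ?_ u v,
    eich_mem_sl H.herm hzz hxz _⟩
  · have h := congrFun (eich_mulVec H.herm hzz hxz (- pullForm n q P x x / 2) (Pi.single b 1)) a
    rw [Matrix.mulVec_single_one, Matrix.col_apply] at h
    rw [one_mul, h]
    exact isRat_add (isRat_sub (isRat_single b) (isRat_smul (H.rat _ _ (isRat_single b) hx) hz))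
      (isRat_smul (H.rat _ _ (isRat_single b) hz) (isRat_add hx (isRat_smul hγF hz))) a
  · rw [(H.fixed _).mpr hγF]; have := H.two; field_simp; ring

/-- Ordered products of two Siegel elements differ by a transvection. -/
theorem OrthSix.eich_comm {x x' z : Fin n → F} (hz : pullForm n q P z z = 0) (hxz : pullForm n q P x z = 0)
    (hxz' : pullForm n q P x' z = 0) (γ γ' : F) :
    eich H.herm hz hxz γ * eich H.herm hz hxz' γ' =
      uT H.herm hz (pullForm n q P x x' - pullForm n q P x' x) * (eich H.herm hz hxz' γ' * eich H.herm hz hxz γ) := by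
  refine gl_ext fun y => ?_
  simp only [Units.val_mul, ← Matrix.mulVec_mulVec, eich_mulVec, uT_mulVec, sub_left H.herm, H.herm.add_left,
    H.herm.smul_left, hz, hxz, hxz', (eq_zero_comm H.herm).mp hxz, (eq_zero_comm H.herm).mp hxz', mul_zero, add_zero,
    sub_zero]
  module

/-- A rational Siegel pair carrying an isotropic vector to a multiple of its partner. -/
theorem OrthSix.move {u w r : Fin n → F} (huu : pullForm n q P u u = 0) (hww : pullForm n q P w w = 0)
    (hu : IsRatVec F₀ u) (hw : IsRatVec F₀ w) (huw : pullForm n q P u w = 1) (hr : IsRatVec F₀ r)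
    (hru : pullForm n q P r u = 0) (hrw : pullForm n q P r w = 0) (hrr : pullForm n q P r r ≠ 0) :
    ∃ k ∈ subGroupF (Fin n) F₀ ⊓ isoSL (pullForm n q P),
      (k : Mat) *ᵥ u = (- pullForm n q P r r / 2) • w := by
  set γ := - pullForm n q P r r / 2 with hγ
  have hγ0 : γ ≠ 0 := div_ne_zero (neg_ne_zero.mpr hrr) H.two
  have hγF : γ ∈ F₀ := div_mem (neg_mem (H.rat _ _ hr hr)) H.two_mem
  have hr' : pullForm n q P ((-γ⁻¹) • r) u = 0 := by rw [H.herm.smul_left, hru, mul_zero]
  refine ⟨_, Subgroup.mul_mem _ (H.eich_rat (isRat_smul (neg_mem (inv_mem hγF)) hr) hu huu hr')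
    (H.eich_rat hr hw hww hrw), ?_⟩
  have hwu : pullForm n q P w u = 1 := by rw [H.symm hu hw]; exact huw
  have hur : pullForm n q P u r = 0 := (eq_zero_comm H.herm).mp hru
  have hwr : pullForm n q P w r = 0 := (eq_zero_comm H.herm).mp hrw
  have hσ : frobQ hF (-γ⁻¹) = -γ⁻¹ := (H.fixed _).mpr (neg_mem (inv_mem hγF))
  simp only [Units.val_mul, ← Matrix.mulVec_mulVec, eich_mulVec, huw, hur, zero_smul, sub_zero, one_smul, ← hγ,
    H.herm.add_left, H.herm.smul_left, smul_right H.herm, hru, hwu, huu, hwr, hσ, mul_zero, mul_one, add_zero,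
    zero_add]
  have h2 : pullForm n q P r r = -2 * γ := by rw [hγ]; have := H.two; field_simp
  rw [h2]
  have h22 := H.two
  match_scalars <;> field_simp <;> ring

/-- The rational torus element of a hyperbolic pair. -/
theorem OrthSix.torus {z y : Fin n → F} (hzz : pullForm n q P z z = 0) (hyy : pullForm n q P y y = 0)
    (hz : IsRatVec F₀ z) (hy : IsRatVec F₀ y) (hzy : pullForm n q P z y = 1) {l : F} (hl : l ∈ F₀) (hl0 : l ≠ 0) :
    ∃ k ∈ subGroupF (Fin n) F₀ ⊓ isoSL (pullForm n q P), (k : Mat) *ᵥ z = l • z := by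
  haveI : Nonempty (Fin n) := ⟨⟨0, by have := H.hn; omega⟩⟩
  have hyz : pullForm n q P y z = 1 := by rw [H.symm hz hy]; exact hzy
  have hu : ∀ b : F, (b • fl H.herm z) z = 0 := fun b => by rw [LinearMap.smul_apply, fl_apply, hzz, smul_zero]
  have hd : ∀ b : F, (b • fl H.herm y) y = 0 := fun b => by rw [LinearMap.smul_apply, fl_apply, hyy, smul_zero]
  set k := transGL _ z (hu l) * transGL _ y (hd (-l⁻¹)) * transGL _ z (hu l) * transGL _ z (hu (-1)) *
    transGL _ y (hd 1) * transGL _ z (hu (-1)) with hk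
  have hkv : ∀ v, (k : Mat) *ᵥ v =
      v + ((l - 1) * pullForm n q P v y) • z + ((l⁻¹ - 1) * pullForm n q P v z) • y := fun v => by
    simp only [hk, Units.val_mul, ← Matrix.mulVec_mulVec, transGL_mulVec, LinearMap.smul_apply, fl_apply,
      smul_eq_mul, H.herm.add_left, H.herm.smul_left, hzz, hyy, hzy, hyz, mul_zero, mul_one, add_zero]
    match_scalars <;> field_simp <;> ring
  refine ⟨k, ⟨mem_subGroupF.mpr ⟨1, one_ne_zero, fun a b => ?_⟩, fun u v => ?_, ?_⟩, ?_⟩
  · have h := congrFun (hkv (Pi.single b 1)) a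
    rw [Matrix.mulVec_single_one, Matrix.col_apply] at h
    rw [one_mul, h]
    exact isRat_add (isRat_add (isRat_single b) (isRat_smul (mul_mem (sub_mem hl (one_mem _))
      (H.rat _ _ (isRat_single b) hy)) hz)) (isRat_smul (mul_mem (sub_mem (inv_mem hl) (one_mem _))
      (H.rat _ _ (isRat_single b) hz)) hy) a
  · change pullForm n q P ((k : Mat) *ᵥ u) ((k : Mat) *ᵥ v) = _
    simp only [hkv, H.herm.add_left, add_right H.herm, H.herm.smul_left, smul_right H.herm, map_mul, map_sub, map_one,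
      map_inv₀, (H.fixed _).mpr hl, sigma_apply H.herm, hzz, hyy, hzy, hyz]
    field_simp
    ring
  · rw [hk]
    exact Subgroup.mul_mem _ (Subgroup.mul_mem _ (Subgroup.mul_mem _ (Subgroup.mul_mem _ (Subgroup.mul_mem _
      (transGL_mem_sl _ _ _) (transGL_mem_sl _ _ _)) (transGL_mem_sl _ _ _)) (transGL_mem_sl _ _ _))
      (transGL_mem_sl _ _ _)) (transGL_mem_sl _ _ _)
  · rw [hkv, hzy, hzz]; module

variable {M : Subgroup (GL (Fin n) F)} (hle : subGroupF (Fin n) F₀ ⊓ isoSL (pullForm n q P) ≤ M)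
  (hsu : M ≤ isoSL (pullForm n q P))
include hle hsu

/-- A single transvection with rational isotropic centre gives the whole centre. -/
theorem OrthSix.centre_of_one {z y : Fin n → F} (hz : IsRatVec F₀ z) (hzz : pullForm n q P z z = 0)
    (hy : IsRatVec F₀ y) (hyy : pullForm n q P y y = 0) (hzy : pullForm n q P z y = 1)
    {d : F} (hd0 : d ≠ 0) (hd : frobQ hF d = -d) (hmem : uT H.herm hzz d ∈ M) : z ∈ centres H.herm M := by
  have hiso : ∀ k ∈ M, ∀ a b, pullForm n q P ((k : Mat) *ᵥ a) ((k : Mat) *ᵥ b) = pullForm n q P a b :=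
    fun k hk => (mem_isoSL.mp (hsu hk)).1
  have hsq : ∀ r : F, r ∈ F₀ → uT H.herm hzz (r * r * d) ∈ M := by
    intro r hr
    rcases eq_or_ne r 0 with rfl | hr0
    · convert M.one_mem using 1
      exact gl_ext fun v => by simp [uT_mulVec]
    obtain ⟨k, hk, e⟩ := H.torus hzz hyy hz hy hzy hr hr0
    have hkz : pullForm n q P ((k : Mat) *ᵥ z) ((k : Mat) *ᵥ z) = 0 := by rw [hiso k (hle hk)]; exact hzz
    have h1 := M.mul_mem (M.mul_mem (hle hk) hmem) (M.inv_mem (hle hk))
    rw [conj_uT H.herm (hiso k (hle hk)) hzz d hkz] at h1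
    convert h1 using 1
    refine gl_ext fun v => ?_
    rw [uT_mulVec, uT_mulVec, e, smul_right H.herm, (H.fixed _).mpr hr, smul_smul]
    congr 2
    ring
  refine ⟨hzz, fun d' hd' => ?_⟩
  have hF₀ : d' / d ∈ F₀ := (H.fixed _).mp (by rw [map_div₀, hd', hd, neg_div_neg_eq])
  set t := d' / d with ht
  have h2 := H.two
  have h1 := M.mul_mem (hsq ((t + 1) / 2) (div_mem (add_mem hF₀ (one_mem _)) H.two_mem))
    (M.inv_mem (hsq ((t - 1) / 2) (div_mem (sub_mem hF₀ (one_mem _)) H.two_mem)))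
  convert h1 using 1
  rw [eq_mul_inv_iff_mul_eq]
  refine gl_ext fun v => ?_
  have e : d' = t * d := by rw [ht, div_mul_cancel₀ _ hd0]
  simp only [Units.val_mul, ← Matrix.mulVec_mulVec, uT_mulVec, H.herm.add_left, H.herm.smul_left, hzz, mul_zero,
    add_zero, e]
  match_scalars <;> field_simp <;> ring


end

section
variable {hF : Fintype.card F = q ^ 2} {F₀ : Subfield F} {P : GL (Fin n) F} (H : OrthSix hF F₀ P)
include H

/-- Partners in a plane. -/
theorem OrthSix.partner {z : Fin n → F} (hz : IsRatVec F₀ z) (hzz : pullForm n q P z z = 0) (hz0 : z ≠ 0) :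
    ∃ y, IsRatVec F₀ y ∧ pullForm n q P y y = 0 ∧ pullForm n q P z y = 1 := by
  obtain ⟨y₀, hy₀, h0⟩ := H.exists_nonorth hz0
  set c := (pullForm n q P y₀ z)⁻¹ with hc
  have hcF : c ∈ F₀ := inv_mem (H.rat _ _ hy₀ hz)
  set y₁ := c • y₀ with hy₁
  have hy₁r : IsRatVec F₀ y₁ := isRat_smul hcF hy₀
  have h1 : pullForm n q P y₁ z = 1 := by rw [hy₁, H.herm.smul_left, hc, inv_mul_cancel₀ h0]
  have h1' : pullForm n q P z y₁ = 1 := by rw [H.symm hy₁r hz]; exact h1
  clear_value y₁
  set μ := - pullForm n q P y₁ y₁ / 2 with hμ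
  have hμF : μ ∈ F₀ := div_mem (neg_mem (H.rat _ _ hy₁r hy₁r)) H.two_mem
  refine ⟨y₁ + μ • z, isRat_add hy₁r (isRat_smul hμF hz), ?_, ?_⟩
  · simp only [H.herm.add_left, add_right H.herm, H.herm.smul_left, smul_right H.herm, (H.fixed _).mpr hμF, h1, h1',
      hzz]
    rw [hμ]
    have := H.two
    field_simp
    ring
  · rw [add_right H.herm, smul_right H.herm, hzz, h1', mul_zero, add_zero]

/-- A vector in the line of its conjugate is a multiple of a rational vector. -/
theorem OrthSix.line_rat {w : Fin n → F} {α : F} (hw0 : w ≠ 0) (h : ∀ x, frobQ hF (w x) = α * w x) :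
    ∃ (k : F) (r : Fin n → F), IsRatVec F₀ r ∧ w = k • r := by
  obtain ⟨p, hp⟩ := Function.ne_iff.mp hw0
  refine ⟨w p, (w p)⁻¹ • w, fun x => (H.fixed _).mp ?_, by rw [smul_smul, mul_inv_cancel₀ hp, one_smul]⟩
  have hα : α ≠ 0 := fun hα => hp (by
    have := h p
    rw [hα, zero_mul] at this
    rw [← H.herm.involutive (w p), this, map_zero]; rfl)
  simp only [Pi.smul_apply, smul_eq_mul, map_mul, map_inv₀, h, mul_inv]
  field_simp

/-- An isotropic vector and a vector of product one with it, both orthogonal to given vectors, give a pair. -/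
theorem OrthSix.pair_of {k : ℕ} (v : Fin k → Fin n → F) {z y : Fin n → F} (hz : IsRatVec F₀ z) (hy : IsRatVec F₀ y)
    (hzz : pullForm n q P z z = 0) (hzy : pullForm n q P z y = 1) (oz : ∀ i, pullForm n q P z (v i) = 0)
    (oy : ∀ i, pullForm n q P y (v i) = 0) :
    ∃ z y, IsRatVec F₀ z ∧ IsRatVec F₀ y ∧ (∀ i, pullForm n q P z (v i) = 0) ∧ (∀ i, pullForm n q P y (v i) = 0) ∧
      pullForm n q P z z = 0 ∧ pullForm n q P y y = 0 ∧ pullForm n q P z y = 1 ∧ pullForm n q P y z = 1 := by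
  set μ := - pullForm n q P y y / 2 with hμ
  have hμF : μ ∈ F₀ := div_mem (neg_mem (H.rat _ _ hy hy)) H.two_mem
  have hyz : pullForm n q P y z = 1 := by rw [H.symm hz hy]; exact hzy
  refine ⟨z, y + μ • z, hz, isRat_add hy (isRat_smul hμF hz), oz,
    fun i => by rw [H.herm.add_left, H.herm.smul_left, oy i, oz i, mul_zero, add_zero], hzz, ?_, ?_, ?_⟩
  · simp only [H.herm.add_left, add_right H.herm, H.herm.smul_left, smul_right H.herm, (H.fixed _).mpr hμF, hzy,
      hyz, hzz]
    rw [hμ]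
    have := H.two
    field_simp
    ring
  · rw [add_right H.herm, smul_right H.herm, hzz, hzy, mul_zero, add_zero]
  · rw [H.herm.add_left, H.herm.smul_left, hzz, hyz, mul_zero, add_zero]

/-- A rational hyperbolic pair. -/
theorem OrthSix.pair0 :
    ∃ z y, IsRatVec F₀ z ∧ IsRatVec F₀ y ∧ pullForm n q P z z = 0 ∧ pullForm n q P y y = 0 ∧
      pullForm n q P z y = 1 ∧ pullForm n q P y z = 1 := by
  obtain ⟨z, hz, hz0, hzz, -⟩ := H.exists_iso_perp (k := 0) (by have := H.hn; omega) Fin.elim0 (fun i => Fin.elim0 i)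
  obtain ⟨y, hy, hyy, hzy⟩ := H.partner hz hzz hz0
  exact ⟨z, y, hz, hy, hzz, hyy, hzy, by rw [H.symm hz hy]; exact hzy⟩

/-- A second pair orthogonal to a pair. -/
theorem OrthSix.pair_perp_pair {z y : Fin n → F} (hz : IsRatVec F₀ z) (hy : IsRatVec F₀ y)
    (hzz : pullForm n q P z z = 0) (hyy : pullForm n q P y y = 0) (hzy : pullForm n q P z y = 1) :
    ∃ x x', IsRatVec F₀ x ∧ IsRatVec F₀ x' ∧ pullForm n q P x z = 0 ∧ pullForm n q P x y = 0 ∧
      pullForm n q P x' z = 0 ∧ pullForm n q P x' y = 0 ∧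
      pullForm n q P x x = 0 ∧ pullForm n q P x' x' = 0 ∧ pullForm n q P x x' = 1 ∧ pullForm n q P x' x = 1 := by
  obtain ⟨x, hx, hx0, hxx, ox⟩ := H.exists_iso_perp (k := 2) (by have := H.hn; omega) ![z, y]
    (fun i => by fin_cases i <;> assumption)
  obtain ⟨w, hw, -, hxw⟩ := H.partner hx hxx hx0
  have x0 : pullForm n q P x z = 0 := by simpa using ox 0
  have x1 : pullForm n q P x y = 0 := by simpa using ox 1
  have hyz : pullForm n q P y z = 1 := by rw [H.symm hz hy]; exact hzy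
  set w' := w - pullForm n q P w y • z - pullForm n q P w z • y with hw'
  have hwr : IsRatVec F₀ w' := isRat_sub (isRat_sub hw (isRat_smul (H.rat _ _ hw hy) hz))
    (isRat_smul (H.rat _ _ hw hz) hy)
  have hxw' : pullForm n q P x w' = 1 := by
    rw [hw', sub_right H.herm, sub_right H.herm, smul_right H.herm, smul_right H.herm, x0, x1, hxw]; ring
  have ow : ∀ i, pullForm n q P w' (![z, y] i) = 0 := fun i => by
    fin_cases i <;> simp [hw', sub_left H.herm, H.herm.smul_left, hzz, hyy, hzy, hyz]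
  obtain ⟨a, b, ha, hb, oa, ob, h1, h2, h3, h4⟩ := H.pair_of ![z, y] hx hwr hxx hxw' ox ow
  exact ⟨a, b, ha, hb, by simpa using oa 0, by simpa using oa 1, by simpa using ob 0, by simpa using ob 1,
    h1, h2, h3, h4⟩

/-- A pair orthogonal to an anisotropic vector. -/
theorem OrthSix.pair_perp_aniso {a : Fin n → F} (ha : IsRatVec F₀ a) (haa : pullForm n q P a a ≠ 0) :
    ∃ z y, IsRatVec F₀ z ∧ IsRatVec F₀ y ∧ pullForm n q P z a = 0 ∧ pullForm n q P y a = 0 ∧
      pullForm n q P z z = 0 ∧ pullForm n q P y y = 0 ∧ pullForm n q P z y = 1 ∧ pullForm n q P y z = 1 := by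
  obtain ⟨x, hx, hx0, hxx, ox⟩ := H.exists_iso_perp (k := 1) (by have := H.hn; omega) ![a]
    (fun i => by fin_cases i; exact ha)
  obtain ⟨w, hw, -, hxw⟩ := H.partner hx hxx hx0
  have x0 : pullForm n q P x a = 0 := by simpa using ox 0
  set c := pullForm n q P w a / pullForm n q P a a with hc
  have hcF : c ∈ F₀ := div_mem (H.rat _ _ hw ha) (H.rat _ _ ha ha)
  have hxw' : pullForm n q P x (w - c • a) = 1 := by
    rw [sub_right H.herm, smul_right H.herm, x0, hxw, mul_zero, sub_zero]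
  have ow : ∀ i, pullForm n q P (w - c • a) (![a] i) = 0 := fun i => by
    fin_cases i; simp [sub_left H.herm, H.herm.smul_left, hc, div_mul_cancel₀ _ haa]
  obtain ⟨z, y, hz, hy, oz, oy, h1, h2, h3, h4⟩ := H.pair_of ![a] hx (isRat_sub hw (isRat_smul hcF ha)) hxx hxw' ox ow
  exact ⟨z, y, hz, hy, by simpa using oz 0, by simpa using oy 0, h1, h2, h3, h4⟩

/-- Rational vectors orthogonal to an anisotropic vector are spanned by such isotropic ones. -/
theorem OrthSix.rat_span_perp {a : Fin n → F} (ha : IsRatVec F₀ a) (haa : pullForm n q P a a ≠ 0)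
    {p : (Fin n → F) → Prop} (hadd : ∀ a b, p a → p b → p (a + b))
    (hsmul : ∀ (c : F), c ∈ F₀ → ∀ a, p a → p (c • a))
    (hiso : ∀ z, IsRatVec F₀ z → pullForm n q P z z = 0 → pullForm n q P z a = 0 → p z)
    {x : Fin n → F} (hx : IsRatVec F₀ x) (hxa : pullForm n q P x a = 0) : p x := by
  obtain ⟨z, y, hz, hy, za, ya, hzz, hyy, hzy, hyz⟩ := H.pair_perp_aniso ha haa
  set s := pullForm n q P x y with hs
  set t := pullForm n q P x z with ht
  have hsF : s ∈ F₀ := H.rat _ _ hx hy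
  have htF : t ∈ F₀ := H.rat _ _ hx hz
  set x' := x - s • z - t • y with hx'
  have hx'r : IsRatVec F₀ x' := isRat_sub (isRat_sub hx (isRat_smul hsF hz)) (isRat_smul htF hy)
  have a1 : pullForm n q P x' z = 0 := by
    rw [hx', sub_left H.herm, sub_left H.herm, H.herm.smul_left, H.herm.smul_left, hzz, hyz, ← ht]; ring
  have a2 : pullForm n q P x' y = 0 := by
    rw [hx', sub_left H.herm, sub_left H.herm, H.herm.smul_left, H.herm.smul_left, hzy, hyy, ← hs]; ring
  set μ := - pullForm n q P x' x' / 2 with hμ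
  have hμF : μ ∈ F₀ := div_mem (neg_mem (H.rat _ _ hx'r hx'r)) H.two_mem
  have hwa : pullForm n q P (x' + z + μ • y) a = 0 := by
    simp only [hx', H.herm.add_left, sub_left H.herm, H.herm.smul_left, hxa, za, ya]; ring
  have hw : pullForm n q P (x' + z + μ • y) (x' + z + μ • y) = 0 := by
    simp only [H.herm.add_left, add_right H.herm, H.herm.smul_left, smul_right H.herm, (H.fixed _).mpr hμF, a1, a2,
      (eq_zero_comm H.herm).mp a1, (eq_zero_comm H.herm).mp a2, hzz, hyy, hzy, hyz]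
    rw [hμ]
    have := H.two
    field_simp
    ring
  have e : x = (x' + z + μ • y) + ((s - 1) • z + (t - μ) • y) := by rw [hx']; module
  rw [e]
  exact hadd _ _ (hiso _ (isRat_add (isRat_add hx'r hz) (isRat_smul hμF hy)) hw hwa)
    (hadd _ _ (hsmul _ (sub_mem hsF (one_mem _)) _ (hiso z hz hzz za))
      (hsmul _ (sub_mem htF hμF) _ (hiso y hy hyy ya)))

/-- Rational vectors are spanned over the subfield by rational isotropic vectors. -/
theorem OrthSix.rat_span {p : (Fin n → F) → Prop} (hadd : ∀ a b, p a → p b → p (a + b))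
    (hsmul : ∀ (c : F), c ∈ F₀ → ∀ a, p a → p (c • a))
    (hiso : ∀ z, IsRatVec F₀ z → pullForm n q P z z = 0 → p z) {x : Fin n → F} (hx : IsRatVec F₀ x) : p x := by
  obtain ⟨z, y, hz, hy, hzz, hyy, hzy, hyz⟩ := H.pair0
  set s := pullForm n q P x y with hs
  set t := pullForm n q P x z with ht
  have hsF : s ∈ F₀ := H.rat _ _ hx hy
  have htF : t ∈ F₀ := H.rat _ _ hx hz
  set x' := x - s • z - t • y with hx'
  have hx'r : IsRatVec F₀ x' := isRat_sub (isRat_sub hx (isRat_smul hsF hz)) (isRat_smul htF hy)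
  have a1 : pullForm n q P x' z = 0 := by
    rw [hx', sub_left H.herm, sub_left H.herm, H.herm.smul_left, H.herm.smul_left, hzz, hyz, ← ht]; ring
  have a2 : pullForm n q P x' y = 0 := by
    rw [hx', sub_left H.herm, sub_left H.herm, H.herm.smul_left, H.herm.smul_left, hzy, hyy, ← hs]; ring
  set μ := - pullForm n q P x' x' / 2 with hμ
  have hμF : μ ∈ F₀ := div_mem (neg_mem (H.rat _ _ hx'r hx'r)) H.two_mem
  have hw : pullForm n q P (x' + z + μ • y) (x' + z + μ • y) = 0 := by
    simp only [H.herm.add_left, add_right H.herm, H.herm.smul_left, smul_right H.herm, (H.fixed _).mpr hμF, a1, a2,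
      (eq_zero_comm H.herm).mp a1, (eq_zero_comm H.herm).mp a2, hzz, hyy, hzy, hyz]
    rw [hμ]
    have := H.two
    field_simp
    ring
  have e : x = (x' + z + μ • y) + ((s - 1) • z + (t - μ) • y) := by rw [hx']; module
  rw [e]
  exact hadd _ _ (hiso _ (isRat_add (isRat_add hx'r hz) (isRat_smul hμF hy)) hw)
    (hadd _ _ (hsmul _ (sub_mem hsF (one_mem _)) _ (hiso z hz hzz)) (hsmul _ (sub_mem htF hμF) _ (hiso y hy hyy)))

variable {M : Subgroup (GL (Fin n) F)} (hle : subGroupF (Fin n) F₀ ⊓ isoSL (pullForm n q P) ≤ M)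
  (hsu : M ≤ isoSL (pullForm n q P))
include hle hsu

/-- Without rational centres every Siegel element in `M` with rational centre has a rational parameter. -/
theorem OrthSix.siegel_param
    (hno : ∀ z, IsRatVec F₀ z → pullForm n q P z z = 0 → z ≠ 0 → z ∉ centres H.herm M)
    {z : Fin n → F} (hz : IsRatVec F₀ z) (hzz : pullForm n q P z z = 0) (hz0 : z ≠ 0) {x : Fin n → F}
    (hxz : pullForm n q P x z = 0) (γ : F) (hmem : eich H.herm hzz hxz γ ∈ M) {x' : Fin n → F} (hx' : IsRatVec F₀ x')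
    (hx'z : pullForm n q P x' z = 0) : pullForm n q P x x' ∈ F₀ := by
  by_contra hne
  obtain ⟨y, hy, hyy, hzy⟩ := H.partner hz hzz hz0
  have h' := hle (H.eich_rat hx' hz hzz hx'z)
  have h1 := M.mul_mem (M.mul_mem hmem h') (M.inv_mem (M.mul_mem h' hmem))
  rw [H.eich_comm hzz hxz hx'z, mul_inv_cancel_right] at h1
  refine hno z hz hzz hz0 (H.centre_of_one hle hsu hz hzz hy hyy hzy (fun h => hne ?_) ?_ h1)
  · rw [← H.fixed, sigma_apply H.herm]; exact (sub_eq_zero.mp h).symm
  · rw [map_sub, sigma_apply H.herm, sigma_apply H.herm, neg_sub]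

/-- Conjugates of Siegel elements. -/
theorem OrthSix.conj_eich {s : GL (Fin n) F} (hs : s ∈ M) {x z X Z : Fin n → F} (hzz : pullForm n q P z z = 0)
    (hxz : pullForm n q P x z = 0) (γ : F) (hX : (s : Mat) *ᵥ x = X) (hZ : (s : Mat) *ᵥ z = Z)
    (hZZ : pullForm n q P Z Z = 0) (hXZ : pullForm n q P X Z = 0) :
    s * eich H.herm hzz hxz γ * s⁻¹ = eich H.herm hZZ hXZ γ := by
  have hiso := (mem_isoSL.mp (hsu hs)).1
  refine gl_ext fun v => ?_
  have hv : (s : Mat) *ᵥ (((s⁻¹ : GL (Fin n) F) : Mat) *ᵥ v) = v := gl_mulVec_inv s v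
  have e1 : pullForm n q P v X = pullForm n q P (((s⁻¹ : GL (Fin n) F) : Mat) *ᵥ v) x := by
    rw [← hX]; conv_lhs => rw [← hv]
    rw [hiso]
  have e2 : pullForm n q P v Z = pullForm n q P (((s⁻¹ : GL (Fin n) F) : Mat) *ᵥ v) z := by
    rw [← hZ]; conv_lhs => rw [← hv]
    rw [hiso]
  simp only [Units.val_mul, ← Matrix.mulVec_mulVec, eich_mulVec, Matrix.mulVec_add, Matrix.mulVec_sub,
    Matrix.mulVec_smul, hX, hZ, hv, e1, e2]

/-- Without rational centres no non-trivial transvection of `M` has a rational centre. -/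
theorem OrthSix.no_transvection
    (hno : ∀ z, IsRatVec F₀ z → pullForm n q P z z = 0 → z ≠ 0 → z ∉ centres H.herm M)
    {z : Fin n → F} (hz : IsRatVec F₀ z) (hzz : pullForm n q P z z = 0) (hz0 : z ≠ 0) {d : F}
    (hd : frobQ hF d = -d) (hmem : uT H.herm hzz d ∈ M) : d = 0 := by
  by_contra hd0
  obtain ⟨y, hy, hyy, hzy⟩ := H.partner hz hzz hz0
  exact hno z hz hzz hz0 (H.centre_of_one hle hsu hz hzz hy hyy hzy hd0 hd hmem)

/-- Without rational centres an element fixing a rational isotropic vector keeps its orthogonal rational. -/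
theorem OrthSix.fix_iso_perp
    (hno : ∀ z, IsRatVec F₀ z → pullForm n q P z z = 0 → z ≠ 0 → z ∉ centres H.herm M)
    {s : GL (Fin n) F} (hs : s ∈ M) {z : Fin n → F} (hz : IsRatVec F₀ z) (hzz : pullForm n q P z z = 0)
    (hz0 : z ≠ 0) (hsz : (s : Mat) *ᵥ z = z) {x : Fin n → F} (hx : IsRatVec F₀ x)
    (hxz : pullForm n q P x z = 0) : IsRatVec F₀ ((s : Mat) *ᵥ x) := by
  obtain ⟨ε, hε0, hε⟩ := exists_skew H.herm
  have hiso := (mem_isoSL.mp (hsu hs)).1
  obtain ⟨y, hy, -, hzy⟩ := H.partner hz hzz hz0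
  have hyz : pullForm n q P y z = 1 := by rw [H.symm hz hy]; exact hzy
  obtain ⟨a, b, ha, hb, hab⟩ := H.decomp hε0 hε ((s : Mat) *ᵥ x)
  have hsxz : pullForm n q P ((s : Mat) *ᵥ x) z = 0 := by
    conv_lhs => rw [← hsz]
    rw [hiso, hxz]
  have hmem : eich H.herm hzz hsxz (- pullForm n q P x x / 2) ∈ M := by
    have h1 := M.mul_mem (M.mul_mem hs (hle (H.eich_rat hx hz hzz hxz))) (M.inv_mem hs)
    rwa [H.conj_eich hle hsu hs hzz hxz _ rfl hsz hzz hsxz] at h1
  have hsplit := hsxz
  rw [hab, H.herm.add_left, H.herm.smul_left] at hsplit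
  obtain ⟨haz, hbz⟩ := H.split_zero hε0 hε (H.rat _ _ ha hz) (H.rat _ _ hb hz) hsplit
  -- the imaginary part lies on the line
  set c := pullForm n q P b y with hc
  have hcF : c ∈ F₀ := H.rat _ _ hb hy
  have hbc : b = c • z := by
    by_contra hne
    obtain ⟨w, hw, hwb⟩ := H.exists_nonorth (sub_ne_zero.mpr hne)
    set t := pullForm n q P w z with ht
    have htF : t ∈ F₀ := H.rat _ _ hw hz
    have hw' : IsRatVec F₀ (w - t • y) := isRat_sub hw (isRat_smul htF hy)
    have hw'z : pullForm n q P (w - t • y) z = 0 := by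
      rw [sub_left H.herm, H.herm.smul_left, hyz, mul_one, ht, sub_self]
    have h1 := H.siegel_param hle hsu hno hz hzz hz0 hsxz _ hmem hw' hw'z
    rw [hab, H.herm.add_left, H.herm.smul_left] at h1
    have hbr : pullForm n q P b (w - t • y) = 0 := (H.split_zero hε0 hε
      (sub_mem (H.rat _ _ ha hw') h1) (H.rat _ _ hb hw') (by ring)).2
    apply hwb
    rw [sub_right H.herm, smul_right H.herm, (H.fixed _).mpr hcF, ← ht]
    have hbw : pullForm n q P w b = t * c := by
      rw [H.symm hb hw]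
      rw [sub_right H.herm, smul_right H.herm, (H.fixed _).mpr htF, ← hc] at hbr
      linear_combination hbr
    rw [hbw, mul_comm, sub_self]
  -- the remaining transvection is trivial
  have hγ : pullForm n q P x x = pullForm n q P a a := by
    rw [← hiso x x, hab, hbc, smul_smul]
    simp only [H.herm.add_left, add_right H.herm, H.herm.smul_left, smul_right H.herm, haz,
      (eq_zero_comm H.herm).mp haz, hzz, mul_zero, add_zero]
  have h2 := H.eich_rat ha hz hzz haz
  have h3 := M.mul_mem hmem (M.inv_mem (hle h2))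
  have he : eich H.herm hzz hsxz (- pullForm n q P x x / 2) =
      uT H.herm hzz (2 * (ε * c)) * eich H.herm hzz haz (- pullForm n q P a a / 2) := by
    refine gl_ext fun v => ?_
    have hsx : (s : Mat) *ᵥ x = a + (ε * c) • z := by rw [hab, hbc, smul_smul]
    simp only [Units.val_mul, ← Matrix.mulVec_mulVec, eich_mulVec, uT_mulVec, sub_left H.herm, H.herm.add_left,
      H.herm.smul_left, hsx, add_right H.herm, smul_right H.herm, map_mul, hε, (H.fixed _).mpr hcF, hzz, haz,
      mul_zero, add_zero, sub_zero, hγ]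
    module
  rw [he, mul_inv_cancel_right] at h3
  have h4 := H.no_transvection hle hsu hno hz hzz hz0
    (by rw [map_mul, map_mul, map_ofNat, hε, (H.fixed _).mpr hcF]; ring) h3
  have hc0 : c = 0 := by
    rcases mul_eq_zero.mp h4 with h | h
    · exact absurd h H.two
    · exact (mul_eq_zero.mp h).resolve_left hε0
  rw [hab, hbc, hc0, zero_smul, smul_zero, add_zero]
  exact ha

/-- Without rational centres an element fixing a rational isotropic vector is rational. -/
theorem OrthSix.fix_iso_rat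
    (hno : ∀ z, IsRatVec F₀ z → pullForm n q P z z = 0 → z ≠ 0 → z ∉ centres H.herm M)
    {s : GL (Fin n) F} (hs : s ∈ M) {z : Fin n → F} (hz : IsRatVec F₀ z) (hzz : pullForm n q P z z = 0)
    (hz0 : z ≠ 0) (hsz : (s : Mat) *ᵥ z = z) {r : Fin n → F} (hr : IsRatVec F₀ r) :
    IsRatVec F₀ ((s : Mat) *ᵥ r) := by
  haveI : Nonempty (Fin n) := ⟨⟨0, by have := H.hn; omega⟩⟩
  obtain ⟨ε, hε0, hε⟩ := exists_skew H.herm
  have hiso := (mem_isoSL.mp (hsu hs)).1
  have hsz' : ((s⁻¹ : GL (Fin n) F) : Mat) *ᵥ z = z := by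
    conv_lhs => rw [← hsz]
    exact gl_inv_mulVec s z
  obtain ⟨y, hy, hyy, hzy⟩ := H.partner hz hzz hz0
  have hyz : pullForm n q P y z = 1 := by rw [H.symm hz hy]; exact hzy
  obtain ⟨a, b, ha, hb, hab⟩ := H.decomp hε0 hε ((s : Mat) *ᵥ y)
  have h1 : pullForm n q P ((s : Mat) *ᵥ y) z = 1 := by
    conv_lhs => rw [← hsz]
    rw [hiso, hyz]
  rw [hab, H.herm.add_left, H.herm.smul_left] at h1
  obtain ⟨haz, hbz⟩ := H.split_zero hε0 hε (sub_mem (H.rat _ _ ha hz) (one_mem _)) (H.rat _ _ hb hz)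
    (by linear_combination h1)
  rw [sub_eq_zero] at haz
  set β := pullForm n q P b a with hβ
  have hβF : β ∈ F₀ := H.rat _ _ hb ha
  have hperp : ∀ x', IsRatVec F₀ x' → pullForm n q P x' z = 0 → pullForm n q P x' b = 0 := by
    intro x' hx' hx'z
    have hinv : ((s⁻¹ : GL (Fin n) F) : Mat) *ᵥ x' = ((s⁻¹ : GL (Fin n) F) : Mat) *ᵥ x' := rfl
    have hxr := H.fix_iso_perp hle hsu hno (M.inv_mem hs) hz hzz hz0 hsz' hx' hx'z
    set x := ((s⁻¹ : GL (Fin n) F) : Mat) *ᵥ x'
    have hxx' : (s : Mat) *ᵥ x = x' := gl_mulVec_inv s x'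
    have h2 : pullForm n q P x' ((s : Mat) *ᵥ y) ∈ F₀ := by
      rw [← hxx', hiso]; exact H.rat _ _ hxr hy
    rw [hab, add_right H.herm, smul_right H.herm, hε] at h2
    exact (H.split_zero hε0 hε (sub_mem h2 (H.rat _ _ hx' ha)) (H.rat _ _ hx' hb) (by ring)).2
  have hbc : b = β • z := by
    by_contra hne
    obtain ⟨w, hw, hwb⟩ := H.exists_nonorth (sub_ne_zero.mpr hne)
    set t := pullForm n q P w z with ht
    have htF : t ∈ F₀ := H.rat _ _ hw hz
    have h2 := hperp (w - t • a) (isRat_sub hw (isRat_smul htF ha))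
      (by rw [sub_left H.herm, H.herm.smul_left, haz, mul_one, ht, sub_self])
    rw [sub_left H.herm, H.herm.smul_left, H.symm hb ha] at h2
    apply hwb
    rw [sub_right H.herm, smul_right H.herm, (H.fixed _).mpr hβF, ← ht]
    linear_combination h2
  set d := -(ε * β) with hd
  have hσd : frobQ hF d = -d := by rw [hd, map_neg, map_mul, hε, (H.fixed _).mpr hβF]; ring
  set u := uT H.herm hzz d with hu
  have hsu' : s * u ∈ isoSL (pullForm n q P) :=
    (isoSL (pullForm n q P)).mul_mem (hsu hs) ⟨fun a b => uT_iso H.herm hzz hσd a b, transGL_mem_sl _ _ _⟩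
  have hrat : ∀ v, IsRatVec F₀ v → IsRatVec F₀ (((s * u : GL (Fin n) F) : Mat) *ᵥ v) := by
    intro v hv
    set t := pullForm n q P v z with ht
    have htF : t ∈ F₀ := H.rat _ _ hv hz
    have e : v = (v - t • y) + t • y := (sub_add_cancel _ _).symm
    rw [e, Matrix.mulVec_add, Matrix.mulVec_smul]
    have hp : pullForm n q P (v - t • y) z = 0 := by
      rw [sub_left H.herm, H.herm.smul_left, hyz, mul_one, ← ht, sub_self]
    refine isRat_add ?_ (isRat_smul htF ?_)
    · rw [Units.val_mul, ← Matrix.mulVec_mulVec, hu, uT_mulVec, hp, mul_zero, zero_smul, add_zero]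
      exact H.fix_iso_perp hle hsu hno hs hz hzz hz0 hsz (isRat_sub hv (isRat_smul htF hy)) hp
    · rw [Units.val_mul, ← Matrix.mulVec_mulVec, hu, uT_mulVec, hyz, mul_one, Matrix.mulVec_add,
        Matrix.mulVec_smul, hsz, hab, hbc, hd]
      convert ha using 1
      module
  have hk : s * u ∈ subGroupF (Fin n) F₀ ⊓ isoSL (pullForm n q P) := ⟨mem_subGroupF.mpr ⟨1, one_ne_zero,
    fun i j => by
      have h := hrat _ (isRat_single j) i
      rwa [Matrix.mulVec_single_one, Matrix.col_apply, ← one_mul (((s * u : GL (Fin n) F) : Mat) i j)] at h⟩, hsu'⟩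
  have huM : u ∈ M := by
    have := M.mul_mem (M.inv_mem hs) (hle hk)
    rwa [inv_mul_cancel_left] at this
  have hd0 := H.no_transvection hle hsu hno hz hzz hz0 hσd (hu ▸ huM)
  have := hrat r hr
  rwa [hu, hd0, Units.val_mul, ← Matrix.mulVec_mulVec, uT_mulVec, zero_mul, zero_smul, add_zero] at this

/-- Without rational centres an element fixing a non-zero rational vector is rational. -/
theorem OrthSix.fix_rat
    (hno : ∀ z, IsRatVec F₀ z → pullForm n q P z z = 0 → z ≠ 0 → z ∉ centres H.herm M)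
    {s : GL (Fin n) F} (hs : s ∈ M) {a : Fin n → F} (ha : IsRatVec F₀ a) (ha0 : a ≠ 0)
    (hsa : (s : Mat) *ᵥ a = a) {r : Fin n → F} (hr : IsRatVec F₀ r) : IsRatVec F₀ ((s : Mat) *ᵥ r) := by
  by_cases haa : pullForm n q P a a = 0
  · exact H.fix_iso_rat hle hsu hno hs ha haa ha0 hsa hr
  obtain ⟨ε, hε0, hε⟩ := exists_skew H.herm
  have hiso := (mem_isoSL.mp (hsu hs)).1
  have hzrat : ∀ z, IsRatVec F₀ z → pullForm n q P z z = 0 → pullForm n q P z a = 0 →
      IsRatVec F₀ ((s : Mat) *ᵥ z) := by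
    intro z hz hzz hza
    set Z := (s : Mat) *ᵥ z with hZ
    have hZZ : pullForm n q P Z Z = 0 := by rw [hZ, hiso, hzz]
    have haz : pullForm n q P a z = 0 := (eq_zero_comm H.herm).mp hza
    have haZ : pullForm n q P a Z = 0 := by
      conv_lhs => rw [← hsa]
      rw [hZ, hiso, haz]
    have hT := M.mul_mem (M.mul_mem hs (hle (H.eich_rat ha hz hzz haz))) (M.inv_mem hs)
    rw [H.conj_eich hle hsu hs hzz haz _ hsa hZ.symm hZZ haZ] at hT
    obtain ⟨c, d, hc, hd, hcd⟩ := H.decomp hε0 hε Z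
    obtain ⟨w, hw, hw0, hww, ow⟩ := H.exists_iso_perp (k := 3) (by have := H.hn; omega) ![a, c, d]
      (fun i => by fin_cases i <;> assumption)
    have w0 : pullForm n q P w a = 0 := by simpa using ow 0
    have w1 : pullForm n q P w c = 0 := by simpa using ow 1
    have w2 : pullForm n q P w d = 0 := by simpa using ow 2
    have wZ : pullForm n q P w Z = 0 := by
      rw [hcd, add_right H.herm, smul_right H.herm, w1, w2, mul_zero, add_zero]
    have hSa := H.fix_iso_rat hle hsu hno hT hw hww hw0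
      (by rw [eich_mulVec, w0, wZ, zero_smul, zero_smul, sub_zero, add_zero]) ha
    rw [eich_mulVec, haZ, zero_smul, add_zero] at hSa
    have h1 := isRat_smul (inv_mem (H.rat _ _ ha ha)) (isRat_sub ha hSa)
    rwa [sub_sub_cancel, smul_smul, inv_mul_cancel₀ haa, one_smul] at h1
  set t := pullForm n q P r a / pullForm n q P a a with ht
  have htF : t ∈ F₀ := div_mem (H.rat _ _ hr ha) (H.rat _ _ ha ha)
  have e : r = (r - t • a) + t • a := (sub_add_cancel _ _).symm
  rw [e, Matrix.mulVec_add, Matrix.mulVec_smul, hsa]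
  refine isRat_add (H.rat_span_perp ha haa (p := fun x => IsRatVec F₀ ((s : Mat) *ᵥ x))
    (fun x y hx hy => by rw [Matrix.mulVec_add]; exact isRat_add hx hy)
    (fun k hk x hx => by rw [Matrix.mulVec_smul]; exact isRat_smul hk hx) hzrat
    (isRat_sub hr (isRat_smul htF ha)) ?_) (isRat_smul htF ha)
  rw [sub_left H.herm, H.herm.smul_left, ht, div_mul_cancel₀ _ haa, sub_self]

/-- Without rational centres every element of `M` is in the subfield subgroup. -/
theorem OrthSix.mem_of_no_centre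
    (hno : ∀ z, IsRatVec F₀ z → pullForm n q P z z = 0 → z ≠ 0 → z ∉ centres H.herm M)
    {g : GL (Fin n) F} (hg : g ∈ M) : g ∈ subGroupF (Fin n) F₀ := by
  classical
  haveI : Nonempty (Fin n) := ⟨⟨0, by have := H.hn; omega⟩⟩
  obtain ⟨ε, hε0, hε⟩ := exists_skew H.herm
  have hiso := (mem_isoSL.mp (hsu hg)).1
  have hgne : ∀ v : Fin n → F, v ≠ 0 → (g : Mat) *ᵥ v ≠ 0 := fun v hv h0 => hv (gl_mulVec_injective g (by
    change (g : Mat) *ᵥ v = (g : Mat) *ᵥ 0
    rw [h0, Matrix.mulVec_zero]))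
  -- conjugates of rational Siegel elements send rationals to rationals
  have hconj : ∀ z x : Fin n → F, ∀ hzz : pullForm n q P z z = 0, ∀ hxz : pullForm n q P x z = 0,
      IsRatVec F₀ z → IsRatVec F₀ x → ∀ r, IsRatVec F₀ r → IsRatVec F₀
        (((g * eich H.herm hzz hxz (- pullForm n q P x x / 2) * g⁻¹ : GL (Fin n) F) : Mat) *ᵥ r) := by
    intro z x hzz hxz hz hx r hr
    obtain ⟨a₁, b₁, ha₁, hb₁, e₁⟩ := H.decomp hε0 hε ((g : Mat) *ᵥ z)
    obtain ⟨a₂, b₂, ha₂, hb₂, e₂⟩ := H.decomp hε0 hε ((g : Mat) *ᵥ x)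
    obtain ⟨w, hw, hw0, ow⟩ := H.exists_rat_perp (k := 4) (by have := H.hn; omega) ![a₁, b₁, a₂, b₂]
      (fun i => by fin_cases i <;> assumption)
    have horth : ∀ u : Fin n → F, (∀ i, pullForm n q P u (![a₁, b₁, a₂, b₂] i) = 0) →
        ((g * eich H.herm hzz hxz (- pullForm n q P x x / 2) * g⁻¹ : GL (Fin n) F) : Mat) *ᵥ u = u := by
      intro u hu
      have u0 := hu 0; have u1 := hu 1; have u2 := hu 2; have u3 := hu 3
      simp at u0 u1 u2 u3
      set u' := ((g⁻¹ : GL (Fin n) F) : Mat) *ᵥ u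
      have hgu : (g : Mat) *ᵥ u' = u := gl_mulVec_inv g u
      have k1 : pullForm n q P u' z = 0 := by
        rw [← hiso, hgu, e₁, add_right H.herm, smul_right H.herm, u0, u1, mul_zero, add_zero]
      have k2 : pullForm n q P u' x = 0 := by
        rw [← hiso, hgu, e₂, add_right H.herm, smul_right H.herm, u2, u3, mul_zero, add_zero]
      simp only [Units.val_mul, ← Matrix.mulVec_mulVec, eich_mulVec]
      rw [show ((g⁻¹ : GL (Fin n) F) : Mat) *ᵥ u = u' from rfl, k1, k2, zero_smul, zero_smul, sub_zero, add_zero]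
      exact hgu
    exact H.fix_rat hle hsu hno (M.mul_mem (M.mul_mem hg (hle (H.eich_rat hx hz hzz hxz))) (M.inv_mem hg))
      hw hw0 (horth w ow) hr
  -- rational isotropic lines go to rational lines
  have hline : ∀ z, IsRatVec F₀ z → pullForm n q P z z = 0 → z ≠ 0 →
      ∃ (k : F) (r : Fin n → F), IsRatVec F₀ r ∧ k ≠ 0 ∧ r ≠ 0 ∧ (g : Mat) *ᵥ z = k • r := by
    intro z hz hzz hz0
    obtain ⟨zp, hzp, hzpzp, hzzp⟩ := H.partner hz hzz hz0
    obtain ⟨x, x', hx, hx', hxz, -, hx'z, -, hxx, hx'x', hxx', hx'x⟩ := H.pair_perp_pair hz hzp hzz hzpzp hzzp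
    have hspan : ∀ u u' : Fin n → F, IsRatVec F₀ u → pullForm n q P u u = 0 → ∀ huz : pullForm n q P u z = 0,
        pullForm n q P u' z = 0 → pullForm n q P u' u = 1 →
        ∃ α β : F, (fun i => frobQ hF (((g : Mat) *ᵥ z) i)) = α • (g : Mat) *ᵥ z + β • (g : Mat) *ᵥ u := by
      intro u u' hu huu huz hu'z hu'u
      set s := g * eich H.herm hzz huz (- pullForm n q P u u / 2) * g⁻¹ with hs
      obtain ⟨a, b, ha, hb, hab⟩ := H.decomp hε0 hε ((g : Mat) *ᵥ (-u'))
      have hsa := hconj z u hzz huz hz hu a ha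
      have hsb := hconj z u hzz huz hz hu b hb
      rw [← hs] at hsa hsb
      have hsy : ∀ Y, (s : Mat) *ᵥ Y = Y - pullForm n q P (((g⁻¹ : GL (Fin n) F) : Mat) *ᵥ Y) u • (g : Mat) *ᵥ z +
          pullForm n q P (((g⁻¹ : GL (Fin n) F) : Mat) *ᵥ Y) z • (g : Mat) *ᵥ u := fun Y => by
        rw [hs]
        simp only [Units.val_mul, ← Matrix.mulVec_mulVec, eich_mulVec, Matrix.mulVec_add, Matrix.mulVec_sub,
          Matrix.mulVec_smul, gl_mulVec_inv, huu, neg_zero, zero_div, zero_smul, add_zero]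
      have hgz : (g : Mat) *ᵥ z = ((s : Mat) *ᵥ a - a) + ε • ((s : Mat) *ᵥ b - b) := by
        have h1 := hsy ((g : Mat) *ᵥ (-u'))
        rw [gl_inv_mulVec, neg_left H.herm, neg_left H.herm, hu'u, hu'z] at h1
        rw [hab, Matrix.mulVec_add, Matrix.mulVec_smul] at h1
        linear_combination (norm := module) -h1
      have hconjg : (fun i => frobQ hF (((g : Mat) *ᵥ z) i)) = ((s : Mat) *ᵥ a - a) - ε • ((s : Mat) *ᵥ b - b) :=
        funext fun i => by
          rw [hgz]
          simp only [Pi.add_apply, Pi.sub_apply, Pi.smul_apply, smul_eq_mul, map_add, map_sub, map_mul, hε,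
            H.sigma_rat hsa i, H.sigma_rat hsb i, H.sigma_rat ha i, H.sigma_rat hb i]
          ring
      refine ⟨-pullForm n q P (((g⁻¹ : GL (Fin n) F) : Mat) *ᵥ a) u +
          ε * pullForm n q P (((g⁻¹ : GL (Fin n) F) : Mat) *ᵥ b) u,
        pullForm n q P (((g⁻¹ : GL (Fin n) F) : Mat) *ᵥ a) z -
          ε * pullForm n q P (((g⁻¹ : GL (Fin n) F) : Mat) *ᵥ b) z, ?_⟩
      rw [hconjg, hsy, hsy]
      module
    obtain ⟨α, β, e1⟩ := hspan x x' hx hxx hxz hx'z hx'x
    obtain ⟨α', β', e2⟩ := hspan x' x hx' hx'x' hx'z hxz hxx'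
    have hzero : α • z + β • x = α' • z + β' • x' := gl_mulVec_injective g (by
      change (g : Mat) *ᵥ _ = (g : Mat) *ᵥ _
      simp only [Matrix.mulVec_add, Matrix.mulVec_smul]
      rw [← e1, ← e2])
    have hβ : β = 0 := by
      have := congrArg (fun w => pullForm n q P w x') hzero
      simp only [H.herm.add_left, H.herm.smul_left, hxx', hx'x', (eq_zero_comm H.herm).mp hx'z, mul_zero, mul_one,
        add_zero, zero_add] at this
      exact this
    have he : ∀ i, frobQ hF (((g : Mat) *ᵥ z) i) = α * ((g : Mat) *ᵥ z) i := fun i => by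
      have := congrFun e1 i
      rw [hβ, zero_smul, add_zero] at this
      exact this
    obtain ⟨k, r, hr, hkr⟩ := H.line_rat (hgne z hz0) he
    refine ⟨k, r, hr, fun h => ?_, fun h => ?_, hkr⟩
    · exact hgne z hz0 (by rw [hkr, h, zero_smul])
    · exact hgne z hz0 (by rw [hkr, h, smul_zero])
  -- a common scalar
  obtain ⟨z₁, y₁, hz₁, -, hzz₁, -, hzy₁, -⟩ := H.pair0
  have hz₁0 : z₁ ≠ 0 := fun h => by rw [h, zero_left H.herm] at hzy₁; exact zero_ne_one hzy₁
  obtain ⟨c, r₁, hr₁, hc0, -, hgz₁⟩ := hline z₁ hz₁ hzz₁ hz₁0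
  have hsum : ∀ u w k l ru rw', IsRatVec F₀ u → IsRatVec F₀ w → pullForm n q P u u = 0 → pullForm n q P w w = 0 →
      pullForm n q P u w = 0 → (∀ a b : F, a • u + b • w = 0 → a = 0 ∧ b = 0) →
      IsRatVec F₀ ru → IsRatVec F₀ rw' → k ≠ 0 → l ≠ 0 → (g : Mat) *ᵥ u = k • ru → (g : Mat) *ᵥ w = l • rw' →
      l / k ∈ F₀ := by
    intro u w k l ru rw' hu hw huu hww huw hind hru hrw hk hl eu ew
    have hsumiso : pullForm n q P (u + w) (u + w) = 0 := by
      rw [H.herm.add_left, add_right H.herm, add_right H.herm, huu, hww, huw, (eq_zero_comm H.herm).mp huw]; ring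
    have hne : u + w ≠ 0 := fun h => one_ne_zero (hind 1 1 (by rw [one_smul, one_smul]; exact h)).1
    obtain ⟨m', r', hr', -, -, e'⟩ := hline (u + w) (isRat_add hu hw) hsumiso hne
    rw [Matrix.mulVec_add, eu, ew] at e'
    refine ratio_fixed H.fixed hru hrw hr' (fun a b hab => ?_) (k := l / k) (L := m' / k) ?_
    · have : (g : Mat) *ᵥ ((a / k) • u + (b / l) • w) = (g : Mat) *ᵥ 0 := by
        rw [Matrix.mulVec_add, Matrix.mulVec_smul, Matrix.mulVec_smul, eu, ew, smul_smul, smul_smul,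
          div_mul_cancel₀ _ hk, div_mul_cancel₀ _ hl, hab, Matrix.mulVec_zero]
      obtain ⟨h1, h2⟩ := hind _ _ (gl_mulVec_injective g this)
      exact ⟨(div_eq_zero_iff.mp h1).resolve_right hk, (div_eq_zero_iff.mp h2).resolve_right hl⟩
    · have := congrArg (fun v => k⁻¹ • v) e'
      simp only [smul_add, smul_smul, inv_mul_cancel₀ hk, one_smul] at this
      simpa [div_eq_inv_mul] using this
  have hall : ∀ z, IsRatVec F₀ z → pullForm n q P z z = 0 → IsRatVec F₀ (c⁻¹ • (g : Mat) *ᵥ z) := by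
    intro z hz hzz
    rcases eq_or_ne z 0 with rfl | hz0
    · rw [Matrix.mulVec_zero, smul_zero]; exact fun i => zero_mem _
    obtain ⟨cz, rz, hrz, hcz, -, ez⟩ := hline z hz hzz hz0
    rcases eq_or_ne (pullForm n q P z₁ z) 0 with hperp | hperp
    · by_cases hdep : ∀ a b : F, a • z₁ + b • z = 0 → a = 0 ∧ b = 0
      · have q1 := hsum z₁ z c cz r₁ rz hz₁ hz hzz₁ hzz hperp hdep hr₁ hrz hc0 hcz hgz₁ ez
        rw [ez, smul_smul]
        refine isRat_smul ?_ hrz
        rwa [div_eq_inv_mul] at q1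
      · push Not at hdep
        obtain ⟨a, b, hab, hne⟩ := hdep
        have hb : b ≠ 0 := fun h => by
          rw [h, zero_smul, add_zero, smul_eq_zero] at hab
          exact hne (hab.resolve_right hz₁0) h
        have e : z = (-(a / b)) • z₁ := by
          have := congrArg (fun w => b⁻¹ • w) hab
          simp only [smul_add, smul_smul, inv_mul_cancel₀ hb, one_smul, smul_zero] at this
          rw [eq_neg_of_add_eq_zero_right this, neg_smul, div_eq_inv_mul]
        obtain ⟨i, hi⟩ := Function.ne_iff.mp hz₁0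
        have htF : -(a / b) ∈ F₀ := by
          have h := mul_mem (hz i) (inv_mem (hz₁ i))
          rwa [e, Pi.smul_apply, smul_eq_mul, mul_assoc, mul_inv_cancel₀ hi, mul_one] at h
        rw [e, Matrix.mulVec_smul, hgz₁, smul_comm, smul_smul c⁻¹, inv_mul_cancel₀ hc0, one_smul]
        exact isRat_smul htF hr₁
    have hkF : (pullForm n q P z₁ z)⁻¹ ∈ F₀ := inv_mem (H.rat _ _ hz₁ hz)
    obtain ⟨u, u', hu, hu', o1, o2, o1', o2', huu, hu'u', huu', hu'u⟩ := H.pair_perp_pair hz₁
      (isRat_smul hkF hz) hzz₁ (by rw [H.herm.smul_left, smul_right H.herm, hzz, mul_zero, mul_zero])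
      (by rw [smul_right H.herm, (H.fixed _).mpr hkF, inv_mul_cancel₀ hperp])
    rw [smul_right H.herm, mul_eq_zero] at o2 o2'
    replace o2 := o2.resolve_left ((map_ne_zero (frobQ hF)).mpr (inv_ne_zero hperp))
    replace o2' := o2'.resolve_left ((map_ne_zero (frobQ hF)).mpr (inv_ne_zero hperp))
    have hu0 : u ≠ 0 := fun h => by rw [h, zero_left H.herm] at huu'; exact zero_ne_one huu'
    obtain ⟨cu, ru, hru, hcu, -, eu⟩ := hline u hu huu hu0
    have hind : ∀ w : Fin n → F, w ≠ 0 → pullForm n q P u' w = 0 →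
        ∀ a b : F, a • w + b • u = 0 → a = 0 ∧ b = 0 := fun w hw hu'w a b hab => by
      have := congrArg (fun v => pullForm n q P v u') hab
      simp only [H.herm.add_left, H.herm.smul_left, (eq_zero_comm H.herm).mp hu'w, huu', mul_zero, mul_one, zero_add,
        zero_left H.herm] at this
      exact ⟨(smul_eq_zero.mp (by rwa [this, zero_smul, add_zero] at hab)).resolve_right hw, this⟩
    have q1 := hsum z₁ u c cu r₁ ru hz₁ hu hzz₁ huu ((eq_zero_comm H.herm).mp o1) (hind z₁ hz₁0 o1') hr₁ hru hc0 hcu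
      hgz₁ eu
    have q2 := hsum z u cz cu rz ru hz hu hzz huu ((eq_zero_comm H.herm).mp o2) (hind z hz0 o2') hrz hru hcz hcu ez eu
    rw [ez, smul_smul]
    refine isRat_smul ?_ hrz
    have := mul_mem q1 (inv_mem q2)
    rwa [inv_div, div_mul_div_comm, mul_comm c cu, mul_div_mul_left _ _ hcu, div_eq_inv_mul] at this
  refine mem_subGroupF.mpr ⟨c⁻¹, inv_ne_zero hc0, fun a b => ?_⟩
  have := H.rat_span (p := fun x => IsRatVec F₀ (c⁻¹ • (g : Mat) *ᵥ x))
    (fun x y hx hy => by rw [Matrix.mulVec_add, smul_add]; exact isRat_add hx hy)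
    (fun k hk x hx => by rw [Matrix.mulVec_smul, smul_comm]; exact isRat_smul hk hx) hall (isRat_single b) a
  rwa [Pi.smul_apply, Matrix.mulVec_single_one, Matrix.col_apply, smul_eq_mul] at this


end

section
variable {hF : Fintype.card F = q ^ 2} {F₀ : Subfield F} {P : GL (Fin n) F} (H : OrthSix hF F₀ P)
include H

/-- A rational vector with prescribed products against two independent rational vectors, made isotropic. -/
theorem OrthSix.exists_iso_prescribed {a b : Fin n → F} (ha : IsRatVec F₀ a) (hb : IsRatVec F₀ b)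
    (hind : ∀ s t : F, s • a + t • b = 0 → s = 0 ∧ t = 0) {A B : F} (hA : A ∈ F₀) (hB : B ∈ F₀) :
    ∃ z, IsRatVec F₀ z ∧ pullForm n q P z z = 0 ∧ pullForm n q P z a = A ∧ pullForm n q P z b = B := by
  have dual : ∀ a b : Fin n → F, IsRatVec F₀ a → IsRatVec F₀ b → (∀ s t : F, s • a + t • b = 0 → s = 0 ∧ t = 0) →
      ∃ p, IsRatVec F₀ p ∧ pullForm n q P p a = 1 ∧ pullForm n q P p b = 0 := by
    intro a b ha hb hind
    have hb0 : b ≠ 0 := fun h => one_ne_zero (hind 0 1 (by rw [h, smul_zero, zero_smul, add_zero])).2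
    obtain ⟨y, hy, hyb⟩ := H.exists_nonorth hb0
    set d := pullForm n q P y a / pullForm n q P y b with hd
    have hdF : d ∈ F₀ := div_mem (H.rat _ _ hy ha) (H.rat _ _ hy hb)
    set a' := a - d • b with ha'
    have ha'0 : a' ≠ 0 := fun h => one_ne_zero (hind 1 (-d) (by rw [one_smul, neg_smul, ← sub_eq_add_neg]; exact h)).1
    obtain ⟨x, hx, hxa⟩ := H.exists_nonorth ha'0
    set p := x - (pullForm n q P x b / pullForm n q P y b) • y with hp
    have hpr : IsRatVec F₀ p := isRat_sub hx (isRat_smul (div_mem (H.rat _ _ hx hb) (H.rat _ _ hy hb)) hy)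
    have hpb : pullForm n q P p b = 0 := by
      rw [hp, sub_left H.herm, H.herm.smul_left, div_mul_cancel₀ _ hyb, sub_self]
    have hpa : pullForm n q P p a = pullForm n q P x a' := by
      rw [hp, ha', sub_left H.herm, H.herm.smul_left, sub_right H.herm, smul_right H.herm, (H.fixed _).mpr hdF, hd]
      field_simp
    refine ⟨(pullForm n q P p a)⁻¹ • p, isRat_smul (inv_mem (H.rat _ _ hpr ha)) hpr, ?_, ?_⟩
    · rw [H.herm.smul_left, inv_mul_cancel₀ (by rw [hpa]; exact hxa)]
    · rw [H.herm.smul_left, hpb, mul_zero]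
  obtain ⟨p, hp, hpa, hpb⟩ := dual a b ha hb hind
  obtain ⟨r, hr, hrb, hra⟩ := dual b a hb ha (fun s t h => (hind t s (by rw [add_comm]; exact h)).symm)
  set x₀ := A • p + B • r with hx₀
  have hx₀r : IsRatVec F₀ x₀ := isRat_add (isRat_smul hA hp) (isRat_smul hB hr)
  have ea : pullForm n q P x₀ a = A := by rw [hx₀, H.herm.add_left, H.herm.smul_left, H.herm.smul_left, hpa, hra]; ring
  have eb : pullForm n q P x₀ b = B := by rw [hx₀, H.herm.add_left, H.herm.smul_left, H.herm.smul_left, hpb, hrb]; ring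
  -- two anisotropic vectors orthogonal to `a` and `b`
  obtain ⟨x₁, hx₁, o₁, a₁⟩ := H.exists_aniso (by have := H.hn; omega) ![a, b] (fun i => by fin_cases i <;> assumption)
  have hx₁v : x₁ ∈ ratPerp H ![a, b] := (mem_perp H.herm _ x₁).mpr o₁
  have hv₁ : ∀ i, IsRatVec F₀ ((Fin.cons x₁ ![a, b] : Fin (2 + 1) → Fin n → F) i) :=
    fun i => Fin.cases hx₁ (fun j => by fin_cases j <;> assumption) i
  obtain ⟨x₂, hx₂, o₂, a₂⟩ | hTI := H.aniso_or (Fin.cons x₁ ![a, b]) hv₁
  swap
  · exfalso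
    have hd := finrank_perp H.herm (Fin.cons x₁ ![a, b] : Fin (2 + 1) → Fin n → F)
    change Fintype.card (Fin n) ≤ Module.finrank F (ratPerp H (Fin.cons x₁ ![a, b])) + (2 + 1) at hd
    rw [Fintype.card_fin] at hd
    have := H.ti_small ![a, b] fun u hu => (H.ti_step _ hx₁v a₁ hu fun y hy => hTI u hu y hy).2
    have := H.hn
    omega
  have h1a : pullForm n q P x₁ a = 0 := by simpa using o₁ 0
  have h1b : pullForm n q P x₁ b = 0 := by simpa using o₁ 1
  have h21 : pullForm n q P x₂ x₁ = 0 := by simpa using o₂ 0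
  have h2a : pullForm n q P x₂ a = 0 := by simpa using o₂ (Fin.succ 0)
  have h2b : pullForm n q P x₂ b = 0 := by simpa using o₂ (Fin.succ 1)
  have h12 := (eq_zero_comm H.herm).mp h21
  set l₁ := pullForm n q P x₀ x₁ / pullForm n q P x₁ x₁ with hl₁
  set l₂ := pullForm n q P x₀ x₂ / pullForm n q P x₂ x₂ with hl₂
  set y₀ := x₀ - l₁ • x₁ - l₂ • x₂ with hy₀
  have hy₀r : IsRatVec F₀ y₀ := isRat_sub
    (isRat_sub hx₀r (isRat_smul (div_mem (H.rat _ _ hx₀r hx₁) (H.rat _ _ hx₁ hx₁)) hx₁))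
    (isRat_smul (div_mem (H.rat _ _ hx₀r hx₂) (H.rat _ _ hx₂ hx₂)) hx₂)
  have y1 : pullForm n q P y₀ x₁ = 0 := by
    simp only [hy₀, sub_left H.herm, H.herm.smul_left, h21, hl₁, div_mul_cancel₀ _ a₁, mul_zero, sub_zero, sub_self]
  have y2 : pullForm n q P y₀ x₂ = 0 := by
    simp only [hy₀, sub_left H.herm, H.herm.smul_left, h12, hl₂, div_mul_cancel₀ _ a₂, mul_zero, sub_zero, sub_self]
  have y1' := (eq_zero_comm H.herm).mp y1
  have y2' := (eq_zero_comm H.herm).mp y2
  obtain ⟨s, t, hs, ht, hst⟩ := H.solve hx₁ hx₂ a₁ a₂ (H.rat _ _ hy₀r hy₀r)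
  have ya : pullForm n q P y₀ a = A := by
    simp only [hy₀, sub_left H.herm, H.herm.smul_left, ea, h1a, h2a, mul_zero, sub_zero]
  have yb : pullForm n q P y₀ b = B := by
    simp only [hy₀, sub_left H.herm, H.herm.smul_left, eb, h1b, h2b, mul_zero, sub_zero]
  clear_value y₀
  refine ⟨y₀ + s • x₁ + t • x₂, isRat_add (isRat_add hy₀r (isRat_smul hs hx₁)) (isRat_smul ht hx₂), ?_, ?_, ?_⟩
  · simp only [H.herm.add_left, add_right H.herm, H.herm.smul_left, smul_right H.herm, (H.fixed _).mpr hs,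
      (H.fixed _).mpr ht, y1, y2, y1', y2', h12, h21]
    linear_combination hst
  · simp only [H.herm.add_left, H.herm.smul_left, ya, h1a, h2a, mul_zero, add_zero]
  · simp only [H.herm.add_left, H.herm.smul_left, yb, h1b, h2b, mul_zero, add_zero]

/-- The orthogonal subfield subgroup is maximal. -/
theorem OrthSix.maximal :
    Cfsg.Geo.IsMaximalIn (isoSL (pullForm n q P)) (subGroupF (Fin n) F₀ ⊓ isoSL (pullForm n q P)) := by
  classical
  haveI : Nonempty (Fin n) := ⟨⟨0, by have := H.hn; omega⟩⟩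
  obtain ⟨ε, hε0, hε⟩ := exists_skew H.herm
  have hεF : ε * ε ∈ F₀ := (H.fixed _).mp (by rw [map_mul, hε, neg_mul_neg])
  refine isMaximalIn_of inf_le_right ?_ fun M h1 h2 g hgM hgH => ?_
  · obtain ⟨z, y, hz, hy, hzz, hyy, hzy, hyz⟩ := H.pair0
    obtain ⟨w, hw, ow, hww⟩ := H.exists_aniso (by have := H.hn; omega) ![z, y] (fun i => by fin_cases i <;> assumption)
    have w0 := ow 0; have w1 := ow 1
    simp at w0 w1
    set v := z + ε • y with hv
    have hvv : pullForm n q P v v = 0 := by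
      simp only [hv, H.herm.add_left, add_right H.herm, H.herm.smul_left, smul_right H.herm, hε, hzz, hyy, hzy, hyz]
      ring
    refine ⟨uT H.herm hvv ε, ⟨fun a b => uT_iso H.herm hvv hε a b, transGL_mem_sl _ _ _⟩, fun hm => ?_⟩
    have hw0 : w ≠ 0 := fun h => hww (by rw [h, zero_left H.herm])
    have hfixw : (uT H.herm hvv ε : Mat) *ᵥ w = w := by
      rw [uT_mulVec, hv, add_right H.herm, smul_right H.herm, w0, w1, mul_zero, add_zero, mul_zero, zero_smul,
        add_zero]
    have hT := rational_of_fix hm.1 hw hw0 hfixw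
    have hr := isRat_sub (mulVec_rat hT hz) hz
    rw [uT_mulVec, add_sub_cancel_left] at hr
    set k := ε * pullForm n q P z v with hk
    have hk' : k = -(ε * ε) := by rw [hk, hv, add_right H.herm, smul_right H.herm, hzz, hzy, hε]; ring
    have hy0 : y ≠ 0 := fun h => by rw [h, zero_left H.herm] at hyz; exact zero_ne_one hyz
    obtain ⟨p, hp⟩ := Function.ne_iff.mp hy0
    have h3 : k * z p + (k * ε) * y p ∈ F₀ := by
      have := hr p
      rwa [Pi.smul_apply, hv, Pi.add_apply, Pi.smul_apply, smul_eq_mul, smul_eq_mul, mul_add, ← mul_assoc] at this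
    have hkF : k ∈ F₀ := hk' ▸ neg_mem hεF
    have h4 : k * ε * y p ∈ F₀ := by
      have := sub_mem h3 (mul_mem hkF (hz p))
      rwa [add_sub_cancel_left] at this
    have h5 : k * y p ≠ 0 := mul_ne_zero (by rw [hk']; exact neg_ne_zero.mpr (mul_ne_zero hε0 hε0)) hp
    have h6 : ε ∈ F₀ := by
      have := mul_mem h4 (inv_mem (mul_mem hkF (hy p)))
      rwa [show k * ε * y p = ε * (k * y p) by ring, mul_assoc, mul_inv_cancel₀ h5, mul_one] at this
    have := (H.fixed _).mpr h6
    rw [hε] at this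
    exact hε0 ((mul_eq_zero.mp (show (2 : F) * ε = 0 by linear_combination -this)).resolve_left H.two)
  have hiso : ∀ k ∈ M, ∀ a b, pullForm n q P ((k : Mat) *ᵥ a) ((k : Mat) *ᵥ b) = pullForm n q P a b :=
    fun k hk => (mem_isoSL.mp (h2 hk)).1
  have hgS : g ∉ subGroupF (Fin n) F₀ := fun h => hgH ⟨h, h2 hgM⟩
  obtain ⟨z₀, hz₀, hz₀z₀, hz₀0, hz₀C⟩ :
      ∃ z, IsRatVec F₀ z ∧ pullForm n q P z z = 0 ∧ z ≠ 0 ∧ z ∈ centres H.herm M := by
    by_contra hc; push Not at hc
    exact hgS (H.mem_of_no_centre h1 h2 hc hgM)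
  -- transitivity on rational isotropic lines
  have hnon : ∀ u w, IsRatVec F₀ u → IsRatVec F₀ w → pullForm n q P u u = 0 → pullForm n q P w w = 0 →
      pullForm n q P u w ≠ 0 → u ∈ centres H.herm M → w ∈ centres H.herm M := by
    intro u w hu hw huu hww hne hC
    set c := (pullForm n q P u w)⁻¹ with hc
    have hcF : c ∈ F₀ := inv_mem (H.rat _ _ hu hw)
    obtain ⟨r, hr, orr, hrr⟩ := H.exists_aniso (by have := H.hn; omega) ![u, w] (fun i => by fin_cases i <;> assumption)
    have r0 := orr 0; have r1 := orr 1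
    simp at r0 r1
    obtain ⟨k, hk, e⟩ := H.move (u := u) (w := c • w) (r := r) huu
      (by rw [H.herm.smul_left, smul_right H.herm, hww, mul_zero, mul_zero]) hu (isRat_smul hcF hw)
      (by rw [smul_right H.herm, (H.fixed _).mpr hcF, hc, inv_mul_cancel₀ hne]) hr r0
      (by rw [smul_right H.herm, r1, mul_zero]) hrr
    have h3 := centres_conj H.herm hiso (h1 hk) hC
    rw [e, smul_smul] at h3
    have h4 : (- pullForm n q P r r / 2) * c ≠ 0 :=
      mul_ne_zero (div_ne_zero (neg_ne_zero.mpr hrr) H.two) (inv_ne_zero hne)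
    have h5 := centres_smul H.herm h3 ((- pullForm n q P r r / 2) * c)⁻¹
    rwa [smul_smul, inv_mul_cancel₀ h4, one_smul] at h5
  have hCr : ∀ w, IsRatVec F₀ w → pullForm n q P w w = 0 → w ∈ centres H.herm M := by
    intro w hw hww
    rcases eq_or_ne w 0 with rfl | hw0
    · have := centres_smul H.herm hz₀C 0
      rwa [zero_smul] at this
    by_cases hzw : pullForm n q P z₀ w = 0
    swap
    · exact hnon z₀ w hz₀ hw hz₀z₀ hww hzw hz₀C
    obtain ⟨a, ha, haa, hza⟩ := H.partner hz₀ hz₀z₀ hz₀0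
    obtain ⟨b, hb, hbb, hwb⟩ := H.partner hw hww hw0
    by_cases h3 : pullForm n q P w a = 0
    swap
    · exact hnon a w ha hw haa hww (fun h => h3 ((eq_zero_comm H.herm).mp h))
        (hnon z₀ a hz₀ ha hz₀z₀ haa (by rw [hza]; exact one_ne_zero) hz₀C)
    by_cases h4 : pullForm n q P z₀ b = 0
    swap
    · exact hnon b w hb hw hbb hww (fun h => one_ne_zero (hwb.symm.trans ((eq_zero_comm H.herm).mp h)))
        (hnon z₀ b hz₀ hb hz₀z₀ hbb h4 hz₀C)
    set μ := - pullForm n q P a b with hμ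
    have hμF : μ ∈ F₀ := neg_mem (H.rat _ _ ha hb)
    set u := a + b + μ • z₀ with hu
    have hur : IsRatVec F₀ u := isRat_add (isRat_add ha hb) (isRat_smul hμF hz₀)
    have e1 : pullForm n q P z₀ u = 1 := by
      rw [hu, add_right H.herm, add_right H.herm, smul_right H.herm, hza, h4, hz₀z₀]; ring
    have e2 : pullForm n q P w u = 1 := by
      rw [hu, add_right H.herm, add_right H.herm, smul_right H.herm, h3, hwb, (eq_zero_comm H.herm).mp hzw]; ring
    have hba : pullForm n q P b a = pullForm n q P a b := H.symm ha hb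
    have haz : pullForm n q P a z₀ = 1 := by rw [H.symm hz₀ ha]; exact hza
    have huu : pullForm n q P u u = 0 := by
      simp only [hu, H.herm.add_left, add_right H.herm, H.herm.smul_left, smul_right H.herm, (H.fixed _).mpr hμF,
        haa, hbb, hba, haz, hza, h4, (eq_zero_comm H.herm).mp h4, hz₀z₀]
      rw [hμ]; ring
    exact hnon u w hur hw huu hww (fun h => one_ne_zero (e2.symm.trans ((eq_zero_comm H.herm).mp h)))
      (hnon z₀ u hz₀ hur hz₀z₀ huu (by rw [e1]; exact one_ne_zero) hz₀C)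
  refine isoSL_le_of_uT hF (by have := H.hn; omega) P fun v hvv d hd => ?_
  suffices hvc : v ∈ centres H.herm M by
    obtain ⟨_, hv'⟩ := hvc
    exact hv' d hd
  obtain ⟨a, b, ha, hb, rfl⟩ := H.decomp hε0 hε v
  have hεε : ε * ε ≠ 0 := mul_ne_zero hε0 hε0
  by_cases hind : ∀ s t : F, s • a + t • b = 0 → s = 0 ∧ t = 0
  swap
  · push Not at hind
    obtain ⟨s, t, hst, hne⟩ := hind
    -- a multiple of a rational vector
    obtain ⟨k, r, hr, hkr⟩ : ∃ (k : F) (r : Fin n → F), IsRatVec F₀ r ∧ a + ε • b = k • r := by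
      by_cases hb0 : b = 0
      · exact ⟨1, a, ha, by rw [hb0, smul_zero, add_zero, one_smul]⟩
      have hs : s ≠ 0 := fun h => by
        rw [h, zero_smul, zero_add, smul_eq_zero] at hst
        exact hne h (hst.resolve_right hb0)
      have : a = (-(t / s)) • b := by
        have := congrArg (fun w => s⁻¹ • w) hst
        simp only [smul_add, smul_smul, inv_mul_cancel₀ hs, one_smul, smul_zero] at this
        rw [eq_neg_of_add_eq_zero_left this, neg_smul, div_eq_inv_mul]
      exact ⟨-(t / s) + ε, b, hb, by rw [this]; module⟩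
    rw [hkr] at hvv ⊢
    rcases eq_or_ne k 0 with rfl | hk
    · rw [zero_smul]
      have := centres_smul H.herm hz₀C 0
      rwa [zero_smul] at this
    rw [H.herm.smul_left, smul_right H.herm] at hvv
    refine centres_smul H.herm (hCr r hr ?_) k
    simpa [hk] using hvv
  -- the invariant
  have hsym : pullForm n q P b a = pullForm n q P a b := H.symm ha hb
  have hvv' : pullForm n q P a a - ε * ε * pullForm n q P b b = 0 := by
    have := hvv
    simp only [H.herm.add_left, add_right H.herm, H.herm.smul_left, smul_right H.herm, hε, hsym] at this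
    linear_combination this
  set c := pullForm n q P a b with hc
  set e := pullForm n q P b b with he
  set W := c + ε * e with hW
  obtain ⟨u, k, hu, hk, huk⟩ : ∃ u k : F, u ≠ 0 ∧ k ≠ 0 ∧ W + u * u = k * k := by
    by_cases hW0 : W = 0
    · exact ⟨1, 1, one_ne_zero, one_ne_zero, by rw [hW0, zero_add]⟩
    have hq9 : 8 ≤ Fintype.card F := by
      have h3 := Cfsg.Agent.H3.two_le_q hF
      have h4 : q ≠ 2 := fun h => by
        haveI : CharP F 2 := ringChar.of_eq (FiniteField.even_card_iff_char_two.mpr (by rw [hF, h]; norm_num))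
        exact H.two CharTwo.two_eq_zero
      have h6 : 3 ≤ q := by omega
      rw [hF]; nlinarith
    obtain ⟨t, ht⟩ : ((Finset.univ : Finset F) \ (insert 0 ((Polynomial.X ^ 2 - Polynomial.C W).roots.toFinset ∪
        (Polynomial.X ^ 2 - Polynomial.C (-W)).roots.toFinset))).Nonempty := by
      rw [← Finset.card_pos, Finset.card_sdiff_of_subset (Finset.subset_univ _), Finset.card_univ]
      have h5 : ∀ x : F, (Polynomial.X ^ 2 - Polynomial.C x).roots.toFinset.card ≤ 2 := fun x =>
        (Multiset.toFinset_card_le _).trans ((Polynomial.card_roots' _).trans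
          (by rw [Polynomial.natDegree_X_pow_sub_C]))
      have := Finset.card_insert_le (0 : F) ((Polynomial.X ^ 2 - Polynomial.C W).roots.toFinset ∪
        (Polynomial.X ^ 2 - Polynomial.C (-W)).roots.toFinset)
      have := Finset.card_union_le (Polynomial.X ^ 2 - Polynomial.C W).roots.toFinset
        (Polynomial.X ^ 2 - Polynomial.C (-W)).roots.toFinset
      have := h5 W
      have := h5 (-W)
      omega
    simp only [Finset.mem_sdiff, Finset.mem_univ, true_and, Finset.mem_insert, Finset.mem_union, not_or,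
      Multiset.mem_toFinset, Polynomial.mem_roots (Polynomial.X_pow_sub_C_ne_zero two_pos _), Polynomial.IsRoot,
      Polynomial.eval_sub, Polynomial.eval_pow, Polynomial.eval_X, Polynomial.eval_C, sub_eq_zero] at ht
    obtain ⟨ht0, ht1, ht2⟩ := ht
    have h2 := H.two
    refine ⟨(t - W / t) / 2, (t + W / t) / 2, ?_, ?_, by field_simp; ring⟩
    · intro h; refine ht1 ?_
      field_simp at h
      linear_combination h
    · intro h; refine ht2 ?_
      field_simp at h
      linear_combination h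
  obtain ⟨A, B, hA, hB, hAB⟩ : ∃ A B : F, A ∈ F₀ ∧ B ∈ F₀ ∧ u = A + ε * B := by
    refine ⟨(u + frobQ hF u) / 2, (u - frobQ hF u) / (2 * ε), (H.fixed _).mp ?_, (H.fixed _).mp ?_, ?_⟩
    · rw [map_div₀, map_add, H.herm.involutive, map_ofNat, add_comm]
    · rw [map_div₀, map_sub, H.herm.involutive, map_mul, map_ofNat, hε, mul_neg, ← neg_sub u, neg_div_neg_eq]
    · have h2 := H.two
      field_simp
      ring
  obtain ⟨z, hz, hzz, hza, hzb⟩ := H.exists_iso_prescribed ha hb hind hA hB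
  have haz : pullForm n q P a z = A := by rw [H.symm hz ha]; exact hza
  have hbz : pullForm n q P b z = B := by rw [H.symm hz hb]; exact hzb
  have hvz : pullForm n q P (a + ε • b) z = u := by rw [H.herm.add_left, H.herm.smul_left, haz, hbz, hAB]
  set κ := ε * u with hκ
  set v₂ := (a + ε • b) + κ • z with hv₂
  -- rescale to a hyperbolic plane
  obtain ⟨a₃, b₃, ha₃, hb₃, h3⟩ := H.decomp hε0 hε (k⁻¹ • v₂)
  have hσu : frobQ hF u = A - ε * B := by
    rw [hAB, map_add, map_mul, hε, (H.fixed _).mpr hA, (H.fixed _).mpr hB]; ring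
  have hσκ : frobQ hF κ = -ε * (A - ε * B) := by rw [hκ, map_mul, hε, hσu]
  have hbar : (fun i => frobQ hF (v₂ i)) = a - ε • b + frobQ hF κ • z := funext fun i => by
    simp only [hv₂, Pi.add_apply, Pi.sub_apply, Pi.smul_apply, smul_eq_mul, map_add, map_mul, hε,
      H.sigma_rat ha i, H.sigma_rat hb i, H.sigma_rat hz i]
    ring
  clear_value κ
  have hv₂v₂ : pullForm n q P v₂ v₂ = 0 := by
    simp only [hv₂, H.herm.add_left, add_right H.herm, H.herm.smul_left, smul_right H.herm, hε, haz, hbz, hza, hzb,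
      hzz, hsym, ← he, hσκ]
    rw [hκ, hAB]
    linear_combination hvv'
  have hbil : pullForm n q P v₂ (fun i => frobQ hF (v₂ i)) = 2 * ε * (k * k) := by
    rw [hbar]
    simp only [hv₂, H.herm.add_left, add_right H.herm, sub_right H.herm, H.herm.smul_left, smul_right H.herm,
      H.herm.involutive, hε, haz, hbz, hza, hzb, hzz, hsym, ← he]
    rw [hκ, ← huk, hW, hAB]
    linear_combination hvv'
  have hkinv : k⁻¹ ≠ 0 := inv_ne_zero hk
  have h33 : pullForm n q P (a₃ + ε • b₃) (a₃ + ε • b₃) = 0 := by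
    rw [← h3, H.herm.smul_left, smul_right H.herm, hv₂v₂, mul_zero, mul_zero]
  have h33' : pullForm n q P (a₃ + ε • b₃) (a₃ - ε • b₃) = 2 * ε := by
    have e : a₃ - ε • b₃ = frobQ hF k⁻¹ • fun i => frobQ hF (v₂ i) := funext fun i => by
      have := congrArg (frobQ hF) (congrFun h3 i)
      simp only [Pi.smul_apply, Pi.add_apply, smul_eq_mul, map_mul, map_add, hε, H.sigma_rat ha₃ i,
        H.sigma_rat hb₃ i] at this
      simp only [Pi.sub_apply, Pi.smul_apply, smul_eq_mul]
      linear_combination -this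
    rw [e, ← h3, H.herm.smul_left, smul_right H.herm, H.herm.involutive, hbil]
    field_simp
  have hsym₃ : pullForm n q P b₃ a₃ = pullForm n q P a₃ b₃ := H.symm ha₃ hb₃
  simp only [H.herm.add_left, add_right H.herm, sub_right H.herm, H.herm.smul_left, smul_right H.herm, hε, hsym₃]
    at h33 h33'
  have hsplit := H.split_zero hε0 hε
    (c := 2 * pullForm n q P a₃ a₃) (d := 2 * (pullForm n q P a₃ b₃ - 1))
    (mul_mem H.two_mem (H.rat _ _ ha₃ ha₃)) (mul_mem H.two_mem (sub_mem (H.rat _ _ ha₃ hb₃) (one_mem _)))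
    (by linear_combination h33 + h33')
  have hQa : pullForm n q P a₃ a₃ = 0 := (mul_eq_zero.mp hsplit.1).resolve_left H.two
  have hc1 : pullForm n q P a₃ b₃ = 1 := sub_eq_zero.mp ((mul_eq_zero.mp hsplit.2).resolve_left H.two)
  have hQb : pullForm n q P b₃ b₃ = 0 := by
    rw [hQa] at h33
    exact (mul_eq_zero.mp (show (ε * ε) * pullForm n q P b₃ b₃ = 0 by linear_combination -h33)).resolve_left hεε
  have hC3 : a₃ + ε • b₃ ∈ centres H.herm M := by
    have h := centres_pair H.herm hiso (hCr a₃ ha₃ hQa) (hCr b₃ hb₃ hQb) (by rw [hc1]; exact one_ne_zero)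
      (k := 1) (l := ε) (by
        simp only [one_smul, H.herm.add_left, add_right H.herm, H.herm.smul_left, smul_right H.herm, hε, hsym₃, hQa,
          hQb]
        ring)
    rwa [one_smul] at h
  rw [← h3] at hC3
  have hC2 : v₂ ∈ centres H.herm M := by
    have := centres_smul H.herm hC3 k
    rwa [smul_smul, mul_inv_cancel₀ hk, one_smul] at this
  have e5 : (1 : F) • v₂ + (-κ) • z = a + ε • b := by rw [hv₂]; module
  have := centres_pair H.herm hiso hC2 (hCr z hz hzz)
    (by rw [hv₂, H.herm.add_left, H.herm.smul_left, hzz, hvz, mul_zero, add_zero]; exact hu) (k := 1) (l := -κ)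
    (by rw [e5]; exact hvv)
  rwa [e5] at this


end

end Cfsg.Agent.H78.SUSub
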